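import Cfsg.Agent.Lib.ClassSize.ThreeSizes.Ctx

/-!
# An odd exceptional prime is big

Otherwise a Sylow `u`-subgroup is abelian of order `u ^ 2` modulo the centre, its `u + 1` lines are
permuted transitively by its normaliser, and a `2`-element of the normaliser inverts it, so
`N(D) / D` would have even order.
-/

set_option autoImplicit false
set_option linter.unusedSectionVars false
set_option linter.style.haveILetI false

namespace Cfsg.Agent.ClassSize.ThreeSizes

open Subgroup Cfsg.Agent.ClassSize.CoprimeTop Cfsg.Agent.ClassSize.TwoSteps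
open scoped commutatorElement Pointwise

variable {G : Type*} [Group G] [Finite G] {p u : ℕ}

namespace Ctx

variable [hu : Fact u.Prime] {y v : G} {R : Sylow u G}

theorem mem_of_sq (hu2 : u ≠ 2) {H : Subgroup G} {x : G} (hx : IsPEl u x) (h : x ^ 2 ∈ H) :
    x ∈ H := by
  obtain ⟨k, hk⟩ := hx.orderOf_dvd
  obtain ⟨j, hj⟩ := exists_pow_eq_self_of_coprime
    ((((Nat.coprime_primes hu.out Nat.prime_two).2 hu2).pow_left k).symm.coprime_dvd_right hk)
  exact hj ▸ pow_mem h j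

/-- The element `x` fixed and `i` inverted by `t` modulo the centre commute. -/
theorem commute_of_fix_inv (hu2 : u ≠ 2) {t x i : G} (hxR : x ∈ (R : Subgroup G))
    (hiR : i ∈ (R : Subgroup G)) (hc : ⁅x, i⁆ ∈ center G) (hx : ⁅t, x⁆ ∈ center G)
    (hi : t * i * t⁻¹ * i ∈ center G) : x * i = i * x := by
  set ζ := ⁅x, i⁆ with hζ
  have hζr : IsPEl u ζ := isPEl_of_mem R.isPGroup' (by
    rw [hζ, commutatorElement_def]
    exact mul_mem (mul_mem (mul_mem hxR hiR) (inv_mem hxR)) (inv_mem hiR))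
  have e1 : t * x * t⁻¹ = ⁅t, x⁆ * x := by simp [commutatorElement_def]
  have e2 : t * i * t⁻¹ = (t * i * t⁻¹ * i) * i⁻¹ := by group
  have e3 : t * ζ * t⁻¹ = ⁅x, i⁻¹⁆ := by
    have : t * ζ * t⁻¹ = ⁅t * x * t⁻¹, t * i * t⁻¹⁆ := by
      rw [hζ, commutatorElement_def, commutatorElement_def]; group
    rw [this, e1, e2]
    set a := ⁅t, x⁆
    set b := t * i * t⁻¹ * i
    rw [commutatorElement_def, commutatorElement_def]
    calc a * x * (b * i⁻¹) * (a * x)⁻¹ * (b * i⁻¹)⁻¹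
        = a * ((x * b) * i⁻¹ * x⁻¹) * a⁻¹ * i * b⁻¹ := by group
      _ = a * (b * (x * i⁻¹ * x⁻¹)) * a⁻¹ * i * b⁻¹ := by rw [mem_center_iff.1 hi x]; group
      _ = (b * (x * i⁻¹ * x⁻¹)) * a * a⁻¹ * i * b⁻¹ := by rw [mem_center_iff.1 hx]
      _ = b * (x * i⁻¹ * x⁻¹ * i) * b⁻¹ := by group
      _ = x * i⁻¹ * x⁻¹ * i⁻¹⁻¹ := by
          rw [← mem_center_iff.1 hi (x * i⁻¹ * x⁻¹ * i), mul_inv_cancel_right, inv_inv]
  have e4 : ⁅x, i⁻¹⁆ = ζ⁻¹ := by
    have h1 : x * i⁻¹ * x⁻¹ = i⁻¹ * ζ⁻¹ := by rw [hζ, commutatorElement_def]; group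
    rw [commutatorElement_def, h1, inv_inv, mem_center_iff.1 (inv_mem hc) i⁻¹,
      inv_mul_cancel_right]
  rw [e4, mem_center_iff.1 hc t, mul_inv_cancel_right] at e3
  have hsq : ζ ^ 2 ∈ (⊥ : Subgroup G) := by
    rw [pow_two, mem_bot]; nth_rewrite 1 [e3]; exact inv_mul_cancel ζ
  exact commutatorElement_eq_one_iff_mul_comm.1 (mem_bot.1 (mem_of_sq hu2 hζr hsq))

theorem big (E : Reg G p) (C : Ctx p y v R) (hu2 : u ≠ 2) : Big u y := by
  classical
  by_contra hb
  obtain ⟨hb1, hb2⟩ := not_or.1 hb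
  have hd := C.dvd E
  have hz := E.pp_center_lt C.hne hd C.hy
  have hpp : pp u (cent y) = u * pp u (center G) := by
    refine le_antisymm (not_lt.1 hb1) ?_
    simp only [pp] at hz ⊢
    rw [Nat.pow_lt_pow_iff_right hu.out.one_lt] at hz
    rw [← pow_succ']
    exact Nat.pow_le_pow_right hu.out.pos hz
  have hRc : Nat.card (R : Subgroup G) = u * (u * pp u (center G)) := by
    have h1 := E.full_le C.hne C.hy
    have h2 : pp u (cent y) < full G u := lt_of_le_of_ne (pp_le_full _) hb2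
    rw [sylow_card, ← full, ← hpp]
    refine le_antisymm h1 ?_
    simp only [pp, full] at h2 ⊢
    rw [Nat.pow_lt_pow_iff_right hu.out.one_lt] at h2
    rw [← pow_succ']
    exact Nat.pow_le_pow_right hu.out.pos h2
  have hW : ∀ w ∈ center G, IsPEl u w → w ∈ (R : Subgroup G) := fun w hw hwr => by
    obtain ⟨P, hP⟩ := hwr.isPGroup_zpowers.exists_le_sylow
    obtain ⟨g, hg⟩ := MulAction.exists_smul_eq G P R
    rw [← hg, Sylow.coe_subgroup_smul, Coprime.mem_conj_smul_iff, mul_assoc,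
      ← mem_center_iff.1 hw g, inv_mul_cancel_left]
    exact hP (mem_zpowers w)
  have hzc : Nat.card ↥((R : Subgroup G) ⊓ center G) = pp u (center G) := by
    refine le_antisymm (card_le_pp inf_le_right R.isPGroup'.to_inf_left) ?_
    obtain ⟨W, hWZ, hWu, hWc⟩ := exists_pp_subgroup u (center G)
    exact hWc ▸ Subgroup.card_le_of_le fun w hw =>
      ⟨hW w (hWZ hw) (isPEl_of_mem hWu hw), hWZ hw⟩
  have hel : ∀ w ∈ (R : Subgroup G), w ∉ center G → Elt p w := fun w hw =>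
    elt_of_pEl E.hp hu.out C.hne (isPEl_of_mem R.isPGroup' hw)
  -- every noncentral element of `R` has its part in `R`
  have hpart : ∀ w ∈ (R : Subgroup G), w ∉ center G →
      prt u (cent w) = (R : Subgroup G) ⊓ cent w := by
    intro w hw hwZ
    symm
    refine eq_of_le_of_card_ge
      (fun a ha => mem_prt_of ha.2 (isPEl_of_mem R.isPGroup' ha.1)) ?_
    rw [E.card_prt (hel w hw hwZ) C.hne, E.card w y (hel w hw hwZ) C.hy u hu.out C.hne, hpp]
    have hlt : pp u (center G) < Nat.card ↥((R : Subgroup G) ⊓ cent w) := by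
      rw [← hzc]
      refine lt_of_le_of_ne (Subgroup.card_le_of_le (inf_le_inf_left _ (center_le_cent w))) fun h =>
        hwZ ?_
      have h' := eq_of_le_of_card_ge (inf_le_inf_left _ (center_le_cent w)) h.ge
      have : w ∈ (R : Subgroup G) ⊓ cent w := ⟨hw, self_mem_cent w⟩
      rw [← h'] at this
      exact this.2
    obtain ⟨i, hi⟩ := IsPGroup.iff_card.1 (R.isPGroup'.to_inf_left (K := cent w))
    rw [hi] at hlt ⊢
    simp only [pp] at hlt ⊢
    rw [Nat.pow_lt_pow_iff_right hu.out.one_lt] at hlt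
    rw [← pow_succ']
    exact Nat.pow_le_pow_right hu.out.pos hlt
  have hnc : ∀ w ∈ (R : Subgroup G), w ∉ center G → ∃ v', Ctx p w v' R := by
    intro w hw hwZ
    by_contra h
    push Not at h
    have hsub : (R : Subgroup G) ≤ prt u (cent w) := fun a ha => by
      by_contra hna
      refine h a ⟨hel w hw hwZ, C.hne, (hpart w hw hwZ).le.trans inf_le_left, ha, fun hac => hna ?_⟩
      exact mem_prt_of hac (isPEl_of_mem R.isPGroup' ha)
    refine hb2 (le_antisymm (pp_le_full _) ?_)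
    have h1 := Subgroup.card_le_of_le hsub
    rwa [E.card_prt (hel w hw hwZ) C.hne, E.card w y (hel w hw hwZ) C.hy u hu.out C.hne,
      sylow_card] at h1
  have hnorm : ∀ w ∈ (R : Subgroup G), w ∉ center G →
      (R : Subgroup G) ≤ normalizer (cent w : Set G) := fun w hw hwZ =>
    (hnc w hw hwZ).choose_spec.le_normalizer E
  have hcomm : ∀ a ∈ (R : Subgroup G), ∀ b ∈ (R : Subgroup G), ⁅a, b⁆ ∈ center G := by
    intro a ha b hb
    by_cases haZ : a ∈ center G
    · rw [commutatorElement_def, ← mem_center_iff.1 haZ b, mul_inv_cancel_right, mul_inv_cancel]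
      exact one_mem _
    by_cases hbZ : b ∈ center G
    · rw [commutatorElement_def, mem_center_iff.1 hbZ a, mul_inv_cancel_right, mul_inv_cancel]
      exact one_mem _
    by_contra hc
    have hcR : ⁅a, b⁆ ∈ (R : Subgroup G) :=
      mul_mem (mul_mem (mul_mem ha hb) (inv_mem ha)) (inv_mem hb)
    have hcb : ⁅a, b⁆ ∈ cent b := by
      rw [commutatorElement_def]
      exact mul_mem (conj_mem_cent (hnorm b hb hbZ ha) (self_mem_cent b)) (inv_mem (self_mem_cent b))
    have hca : ⁅a, b⁆ ∈ cent a := by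
      rw [commutatorElement_def, mul_assoc a b, mul_assoc a]
      exact mul_mem (self_mem_cent a)
        (conj_mem_cent (hnorm a ha haZ hb) (inv_mem (self_mem_cent a)))
    have h1 := E.eq a _ (hel a ha haZ) (hel _ hcR hc) hca
    have h2 := E.eq b _ (hel b hb hbZ) (hel _ hcR hc) hcb
    have hab : a * b = b * a := mem_cent.1 (h1.symm.trans h2 ▸ self_mem_cent b : b ∈ cent a)
    exact hc (by rw [commutatorElement_eq_one_iff_mul_comm.2 hab]; exact one_mem _)
  -- the noncentral element `y₁` of `R` with centraliser `D`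
  obtain ⟨y₁, hy₁A, hy₁E, -, -, hy₁c⟩ := E.exists_noncentral_prt C.hne hd C.hy
  have hy₁R : y₁ ∈ (R : Subgroup G) := C.le hy₁A
  -- counting the centralisers meeting `R`
  set T : Finset G := (Set.toFinite ((R : Set G) \ (center G : Set G))).toFinset with hT
  have hmT : ∀ w, w ∈ T ↔ w ∈ (R : Subgroup G) ∧ w ∉ center G := fun w => by
    simp only [hT, Set.Finite.mem_toFinset, Set.mem_diff, SetLike.mem_coe]; rfl
  set Λ := T.image (fun w => cent w) with hΛ
  have hz0 : 0 < pp u (center G) := pow_pos hu.out.pos _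
  have hcard : ∀ H : Subgroup G, H ≤ (R : Subgroup G) →
      (R : Subgroup G) ⊓ center G ≤ H →
      ((Set.toFinite ((H : Set G) \ (center G : Set G))).toFinset).card =
        Nat.card H - pp u (center G) := by
    intro H hH hZH
    rw [← Set.ncard_eq_toFinset_card]
    rw [show (H : Set G) \ (center G : Set G) =
      (H : Set G) \ (((R : Subgroup G) ⊓ center G : Subgroup G) : Set G) by
        ext a
        simp only [Set.mem_diff, SetLike.mem_coe, mem_inf]
        exact ⟨fun h => ⟨h.1, fun h' => h.2 h'.2⟩, fun h => ⟨h.1, fun h' => h.2 ⟨hH h.1, h'⟩⟩⟩]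
    rw [Set.ncard_diff (fun a ha => hZH ha), ← Nat.card_coe_set_eq, ← Nat.card_coe_set_eq]
    exact congrArg (Nat.card H - ·) hzc
  have hfib : ∀ c ∈ Λ, (T.filter fun w => cent w = c).card =
      u * pp u (center G) - pp u (center G) := by
    intro c hc
    obtain ⟨w₀, hw₀, rfl⟩ := Finset.mem_image.1 hc
    obtain ⟨hw₀R, hw₀Z⟩ := (hmT w₀).1 hw₀
    have e : T.filter (fun w => cent w = cent w₀) =
        (Set.toFinite ((((R : Subgroup G) ⊓ cent w₀ : Subgroup G) : Set G) \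
          (center G : Set G))).toFinset := by
      ext w
      simp only [Finset.mem_filter, hmT, Set.Finite.mem_toFinset, Set.mem_diff, SetLike.mem_coe,
        mem_inf]
      exact ⟨fun h => ⟨⟨h.1.1, h.2 ▸ self_mem_cent w⟩, h.1.2⟩, fun h => ⟨⟨h.1.1, h.2⟩,
        E.eq w₀ w (hel _ hw₀R hw₀Z) (hel _ h.1.1 h.2) h.1.2⟩⟩
    rw [e, hcard _ inf_le_left (inf_le_inf_left _ (center_le_cent w₀)), ← hpart w₀ hw₀R hw₀Z,
      E.card_prt (hel _ hw₀R hw₀Z) C.hne, E.card w₀ y (hel _ hw₀R hw₀Z) C.hy u hu.out C.hne, hpp]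
  have hL : Λ.card = u + 1 := by
    have h1 := Finset.card_eq_sum_card_fiberwise (f := fun w => cent w) (s := T) (t := Λ)
      fun w hw => Finset.mem_image_of_mem _ hw
    rw [Finset.sum_const_nat hfib, hT, hcard _ le_rfl inf_le_left, hRc] at h1
    obtain ⟨k, rfl⟩ : ∃ k, u = k + 2 := ⟨u - 2, by have := hu.out.two_le; omega⟩
    set z := pp (k + 2) (center G)
    have e1 : (k + 2) * z - z = (k + 1) * z := by
      rw [show k + 2 = k + 1 + 1 by ring, add_mul _ 1, one_mul, Nat.add_sub_cancel]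
    have e2 : (k + 2) * ((k + 2) * z) - z = (k + 2 + 1) * ((k + 1) * z) := by
      rw [show (k + 2) * ((k + 2) * z) = (k + 2 + 1) * ((k + 1) * z) + z by ring, Nat.add_sub_cancel]
    rw [e1, e2] at h1
    exact (Nat.eq_of_mul_eq_mul_right (Nat.mul_pos (by omega) hz0) h1).symm
  -- the normaliser of `R` is transitive on the centralisers
  set NR := normalizer ((R : Subgroup G) : Set G) with hNR
  set St := (normalizer (cent y : Set G)).subgroupOf NR with hSt
  have htr : ∀ c ∈ Λ, ∃ g ∈ NR, cent (g * y₁ * g⁻¹) = c := by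
    intro c hc
    obtain ⟨w, hw, rfl⟩ := Finset.mem_image.1 hc
    obtain ⟨hwR, hwZ⟩ := (hmT w).1 hw
    obtain ⟨g, hg⟩ := E.exists_conj_cent hy₁E (hel w hwR hwZ)
    set M := normalizer (cent w : Set G) with hM
    have h1 : ((g • R : Sylow u G) : Subgroup G) ≤ M := fun a ha => by
      rw [Sylow.coe_subgroup_smul, Coprime.mem_conj_smul_iff] at ha
      have h2 := hnorm y₁ hy₁R hy₁E.2 ha
      refine mem_normalizer_iff.2 fun b => ?_
      rw [← hg, mem_cent_conj, mem_cent_conj]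
      have h3 := mem_normalizer_iff.1 h2 (g⁻¹ * b * g)
      simpa [mul_assoc] using h3
    obtain ⟨h, hh⟩ := MulAction.exists_smul_eq M ((g • R).subtype h1) (R.subtype (hnorm w hwR hwZ))
    rw [Sylow.smul_subtype] at hh
    have h4 : (h : G) • g • R = R := Sylow.subtype_injective hh
    refine ⟨(h : G) * g, Sylow.smul_eq_iff_mem_normalizer.1 (by rw [mul_smul]; exact h4), ?_⟩
    rw [show (h : G) * g * y₁ * ((h : G) * g)⁻¹ = (h : G) * (g * y₁ * g⁻¹) * (h : G)⁻¹ by group,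
      cent_conj, hg]
    exact Coprime.conj_smul_eq_self_of_mem h.2
  have hmem : ∀ g ∈ NR, cent (g * y₁ * g⁻¹) ∈ Λ := fun g hg => Finset.mem_image.2 ⟨_, (hmT _).2
    ⟨(mem_normalizer_iff.1 hg y₁).1 hy₁R, fun h => hy₁E.2 (by
      have := Normal.conj_mem (inferInstance : (center G).Normal) _ h g⁻¹
      simpa [mul_assoc] using this)⟩, rfl⟩
  have hSt2 : St.index = u + 1 := by
    rw [← hL, ← Fintype.card_coe Λ, ← Nat.card_eq_fintype_card, index]
    refine Nat.card_congr (Equiv.ofBijective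
      (Quotient.lift (fun g : NR => (⟨_, hmem g g.2⟩ : Λ)) fun a b hab => ?_) ⟨?_, ?_⟩)
    · have h := mem_subgroupOf.1 (QuotientGroup.leftRel_apply.1 hab)
      refine Subtype.ext ?_
      simp only
      rw [show (b : G) * y₁ * (b : G)⁻¹ = (a : G) * ((((a⁻¹ * b : NR)) : G) * y₁ *
        (((a⁻¹ * b : NR)) : G)⁻¹) * (a : G)⁻¹ by simp [mul_assoc]]
      rw [cent_conj (a : G), cent_conj (a : G), cent_conj (((a⁻¹ * b : NR)) : G), hy₁c]
      exact congrArg _ (Coprime.conj_smul_eq_self_of_mem h).symm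
    · rintro a b
      induction a using Quotient.inductionOn with
      | h a =>
        induction b using Quotient.inductionOn with
        | h b =>
          intro hab
          refine QuotientGroup.eq.2 (mem_subgroupOf.2 ?_)
          have h1 : cent ((a : G) * y₁ * (a : G)⁻¹) = cent ((b : G) * y₁ * (b : G)⁻¹) :=
            congrArg Subtype.val hab
          rw [← hy₁c]
          refine mem_normalizer_of_cent_conj ?_
          rw [show ((a⁻¹ * b : NR) : G) * y₁ * ((a⁻¹ * b : NR) : G)⁻¹ =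
            (a : G)⁻¹ * ((b : G) * y₁ * (b : G)⁻¹) * ((a : G)⁻¹)⁻¹ by simp [mul_assoc],
            cent_conj, ← h1, ← cent_conj]
          congr 1; group
    · rintro ⟨c, hc⟩
      obtain ⟨g, hg, hgc⟩ := htr c hc
      exact ⟨Quotient.mk'' ⟨g, hg⟩, Subtype.ext hgc⟩
  -- a `2`-element moving `D`
  haveI : Fact (Nat.Prime 2) := ⟨Nat.prime_two⟩
  obtain ⟨P⟩ := (inferInstance : Nonempty (Sylow 2 NR))
  obtain ⟨t₀, ht₀P, ht₀S⟩ : ∃ t ∈ (P : Subgroup NR), t ∉ St := by
    by_contra hne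
    push Not at hne
    refine P.not_dvd_index (Nat.dvd_trans ?_ (index_dvd_of_le hne))
    rw [hSt2]
    have := hu.out.odd_of_ne_two hu2
    obtain ⟨j, hj⟩ := this
    omega
  obtain ⟨k, hk⟩ := P.isPGroup' ⟨t₀, ht₀P⟩
  have hk' : (t₀ : G) ^ 2 ^ k = 1 := congrArg (fun a => ((a.1 : NR) : G)) hk
  let Triv : G → Prop := fun t => ∀ w ∈ (R : Subgroup G), ⁅t, w⁆ ∈ center G
  have hex : ∃ j, Triv ((t₀ : G) ^ 2 ^ j) := ⟨k, fun w _ => by simp [hk', one_mem]⟩
  set j := Nat.find hex with hj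
  have hj0 : j ≠ 0 := fun h0 => ht₀S (mem_subgroupOf.2 (by
    have h1 := Nat.find_spec hex
    rw [← hj, h0, pow_zero, pow_one] at h1
    rw [← hy₁c]
    refine mem_normalizer_of_cent_conj ?_
    rw [show (t₀ : G) * y₁ * (t₀ : G)⁻¹ = ⁅(t₀ : G), y₁⁆ * y₁ by simp [commutatorElement_def],
      cent_mul_center (h1 y₁ hy₁R)]))
  obtain ⟨i, hi⟩ := Nat.exists_eq_succ_of_ne_zero hj0
  set t := (t₀ : G) ^ 2 ^ i with ht
  have htn : ∀ w ∈ (R : Subgroup G), t * w * t⁻¹ ∈ (R : Subgroup G) := fun w hw =>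
    (mem_normalizer_iff.1 (pow_mem t₀.2 _) w).1 hw
  have htriv : ¬ Triv t := Nat.find_min hex (by omega)
  have ht2 : Triv (t ^ 2) := by
    rw [ht, ← pow_mul, ← pow_succ]
    have := Nat.find_spec hex
    rwa [← hj, hi] at this
  -- fixed and inverted parts
  have hfix : ∀ w ∈ (R : Subgroup G), ⁅t, w * (t * w * t⁻¹)⁆ ∈ center G := by
    intro w hw
    set w₁ := t * w * t⁻¹ with hw₁
    have e : ⁅t, w * w₁⁆ = w₁ * (⁅t ^ 2, w⁆ * w) * w₁⁻¹ * w⁻¹ := by
      rw [hw₁, commutatorElement_def, commutatorElement_def, pow_two]; group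
    rw [e, ← mul_assoc w₁, mem_center_iff.1 (ht2 w hw) w₁,
      show ⁅t ^ 2, w⁆ * w₁ * w * w₁⁻¹ * w⁻¹ = ⁅t ^ 2, w⁆ * ⁅w₁, w⁆ by
        rw [commutatorElement_def w₁]; group]
    exact mul_mem (ht2 w hw) (hcomm _ (htn w hw) _ hw)
  have hinv : ∀ w ∈ (R : Subgroup G),
      t * (w * (t * w * t⁻¹)⁻¹) * t⁻¹ * (w * (t * w * t⁻¹)⁻¹) ∈ center G := by
    intro w hw
    have e : t * (w * (t * w * t⁻¹)⁻¹) * t⁻¹ * (w * (t * w * t⁻¹)⁻¹) =
        (t * w * t⁻¹) * (w⁻¹ * ⁅t ^ 2, w⁆⁻¹) * w * (t * w * t⁻¹)⁻¹ := by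
      rw [commutatorElement_def, pow_two]; group
    rw [e, mem_center_iff.1 (inv_mem (ht2 w hw)) w⁻¹]
    rw [show t * w * t⁻¹ * (⁅t ^ 2, w⁆⁻¹ * w⁻¹) * w * (t * w * t⁻¹)⁻¹ =
      t * w * t⁻¹ * ⁅t ^ 2, w⁆⁻¹ * (t * w * t⁻¹)⁻¹ by group,
      mem_center_iff.1 (inv_mem (ht2 w hw)), mul_inv_cancel_right]
    exact inv_mem (ht2 w hw)
  obtain ⟨w₀, hw₀R, hw₀⟩ : ∃ w ∈ (R : Subgroup G), ⁅t, w⁆ ∉ center G := by
    simpa [Triv] using htriv
  obtain ⟨i₀, hi₀⟩ : ∃ i₀, i₀ = w₀ * (t * w₀ * t⁻¹)⁻¹ := ⟨_, rfl⟩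
  have hi₀R : i₀ ∈ (R : Subgroup G) := hi₀ ▸ mul_mem hw₀R (inv_mem (htn _ hw₀R))
  have hi₀Z : i₀ ∉ center G := fun h => hw₀ (by
    have : ⁅t, w₀⁆ = i₀⁻¹ := by rw [hi₀, commutatorElement_def]; group
    rw [this]; exact inv_mem h)
  have hsame : ∀ x ∈ (R : Subgroup G), x ∉ center G → ⁅t, x⁆ ∈ center G → ∀ b ∈ (R : Subgroup G),
      b ∉ center G → t * b * t⁻¹ * b ∈ center G → cent x = cent b := fun x hx hxZ hxf b hb hbZ hbi =>
    (E.eq x b (hel x hx hxZ) (hel b hb hbZ)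
      (mem_cent.2 (commute_of_fix_inv hu2 hx hb (hcomm x hx b hb) hxf hbi))).symm
  have nofix : ∀ x ∈ (R : Subgroup G), ⁅t, x⁆ ∈ center G → x ∈ center G := by
    intro x hx hxf
    by_contra hxZ
    have hi₀i := hi₀ ▸ hinv w₀ hw₀R
    have hxi := hsame x hx hxZ hxf i₀ hi₀R hi₀Z hi₀i
    obtain ⟨v', C'⟩ := hnc x hx hxZ
    refine C'.notMem ?_
    have hw := C'.mem
    refine mem_of_sq hu2 (isPEl_of_mem R.isPGroup' hw) ?_
    have hxm : v' * (t * v' * t⁻¹) ∈ cent x := by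
      by_cases h : v' * (t * v' * t⁻¹) ∈ center G
      · exact center_le_cent x h
      · rw [hxi, ← hsame _ (mul_mem hw (htn _ hw)) h (hfix v' hw) i₀ hi₀R hi₀Z hi₀i]
        exact self_mem_cent _
    have him : v' * (t * v' * t⁻¹)⁻¹ ∈ cent x := by
      by_cases h : v' * (t * v' * t⁻¹)⁻¹ ∈ center G
      · exact center_le_cent x h
      · rw [hsame x hx hxZ hxf _ (mul_mem hw (inv_mem (htn _ hw))) h (hinv v' hw)]
        exact self_mem_cent _
    have hcc : ⁅v'⁻¹, v' * (t * v' * t⁻¹)⁻¹⁆ ∈ center G :=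
      hcomm _ (inv_mem hw) _ (mul_mem hw (inv_mem (htn _ hw)))
    have e : v' ^ 2 = v' * (t * v' * t⁻¹) * (⁅v'⁻¹, v' * (t * v' * t⁻¹)⁻¹⁆ *
        (v' * (t * v' * t⁻¹)⁻¹)) := by
      rw [commutatorElement_def, pow_two]; group
    rw [e]
    exact mul_mem hxm (mul_mem (center_le_cent x hcc) him)
  have hall : y₁ * (t * y₁ * t⁻¹) ∈ center G :=
    nofix _ (mul_mem hy₁R (htn _ hy₁R)) (hfix _ hy₁R)
  have htN : t ∈ normalizer (cent y : Set G) := by
    refine E.mem_normalizer C.hy hy₁E (prt_le _ _ hy₁A) ?_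
    have : t * y₁ * t⁻¹ = y₁⁻¹ * (y₁ * (t * y₁ * t⁻¹)) := by group
    rw [this]
    exact mul_mem (inv_mem (prt_le _ _ hy₁A)) (center_le_cent y hall)
  have htD : t ∉ cent y := fun h => hy₁E.2 (by
    rw [← hy₁c, mem_cent] at h
    rw [← h, mul_inv_cancel_right, ← pow_two] at hall
    exact mem_of_sq hu2 (isPEl_of_mem R.isPGroup' hy₁R) hall)
  refine C.not_two_dvd E hu2 ?_
  set e : Weyl y := ((⟨t, htN⟩ : normalizer (cent y : Set G)) : Weyl y) with he
  have h1 : e ^ 2 ^ k = 1 := by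
    rw [he, ← QuotientGroup.mk_pow]
    refine mk_eq_one.2 ?_
    show t ^ 2 ^ k ∈ cent y
    rw [ht, ← pow_mul, mul_comm, pow_mul, hk', one_pow]; exact one_mem _
  obtain ⟨l, -, hl⟩ := (Nat.dvd_prime_pow Nat.prime_two).1 (orderOf_dvd_of_pow_eq_one h1)
  rcases l with _ | l
  · exact absurd (mk_eq_one.1 (orderOf_eq_one_iff.1 (by rw [hl, pow_zero]) : e = 1)) htD
  · exact (dvd_pow_self 2 l.succ_ne_zero).trans (hl ▸ orderOf_dvd_natCard e)

end Ctx

end Cfsg.Agent.ClassSize.ThreeSizes
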