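import Cfsg.Agent.Lib.ClassSize.ThreeSizes.Invol
import Cfsg.Agent.Lib.ClassSize.ThreeSizes.Small
import Cfsg.Agent.Lib.Transfer.HallWielandt

/-!
# The main lemma

`Reg.not_dvd_index`: under `Reg G p` the index of the centraliser of a noncentral element of order
prime to `p` is a power of `p`. For an exceptional odd prime `u` the Hall–Wielandt theorem puts the
image of `v` in the derived group of the Z-group `N(D) / D`, which then is of order `u` with a
complement of `p`-power order acting fixed point freely with it.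
-/

set_option autoImplicit false
set_option linter.unusedSectionVars false
set_option linter.style.haveILetI false

namespace Cfsg.Agent.ClassSize.ThreeSizes

open Subgroup Cfsg.Agent.ClassSize.CoprimeTop Cfsg.Agent.ClassSize.TwoSteps
open scoped commutatorElement Pointwise

variable {G : Type*} [Group G] [Finite G] {p u : ℕ}

namespace Ctx

variable [hu : Fact u.Prime] {y v : G} {R : Sylow u G}

theorem isWeaklyClosed (E : Reg G p) (C : Ctx p y v R) (hu2 : u ≠ 2) :
    Cfsg.IsWeaklyClosed (prt u (cent y)) (R : Subgroup G) := by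
  refine ⟨C.le, fun g hg => ?_⟩
  obtain ⟨x, B⟩ := exists_isBase R (C.dvd E)
  set y' := g * y * g⁻¹ with hy'
  have hy'E : Elt p y' := by
    refine ⟨?_, fun h => C.hy.2 (by
      have := Normal.conj_mem (inferInstance : (center G).Normal) _ h g⁻¹
      simpa [hy', mul_assoc] using this)⟩
    rw [hy', ← MulAut.conj_apply, MulEquiv.orderOf_eq]
    exact C.hy.1
  have hle : prt u (cent y') ≤ (prt u (cent y)).map (MulAut.conj g).toMonoidHom := by
    refine (closure_le _).2 fun a ha => ?_
    obtain ⟨ha1, ha2⟩ := ha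
    exact ⟨g⁻¹ * a * g, mem_prt_of (mem_cent_conj.1 ha1) (by simpa using IsPEl.conj' ha2 g⁻¹),
      by simp [mul_assoc]⟩
  have hc : cent y' = cent y :=
    (E.toRich.cent_eq_base C.hne B hy'E (hle.trans hg)
      (by
        have := C.big E hu2
        unfold Big at this ⊢
        rwa [E.card y' y hy'E C.hy u hu.out C.hne])).trans
      (E.toRich.cent_eq_base C.hne B C.hy C.le (C.big E hu2)).symm
  rw [hc] at hle
  exact (eq_of_le_of_card_ge hle (card_map_of_injective (MulAut.conj g).injective).le).symm

/-- The image of `v` is in the derived group. -/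
theorem bar_mem_commutator (E : Reg G p) (C : Ctx p y v R) (hu2 : u ≠ 2) :
    C.bar E ∈ _root_.commutator (Weyl y) := by
  have hu3 : 3 ≤ u := by have := hu.out.two_le; omega
  rcases Transfer.step_or_control R (C.isWeaklyClosed E hu2) with ⟨⟨st⟩⟩ | ⟨-, hctrl⟩
  · exfalso
    refine absurd ?_ st.chi_bracket
    obtain ⟨hz1, hz2⟩ := (E.mem_prt C.hy hu.out C.hne).1 st.z_mem
    have hyR : st.y ∈ (R : Subgroup G) := st.T_le (st.le_T st.y_mem)
    have h1 : st.D st.y ∈ prt u (cent y) := by
      show st.y⁻¹ * st.z⁻¹ * st.y * st.z ∈ _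
      refine mul_mem ?_ st.z_mem
      have := (mem_normalizer_iff.1 (inv_mem (C.le_normalizer_prt E hyR)) st.z⁻¹).1 (inv_mem st.z_mem)
      rwa [inv_inv] at this
    have h2 : ∀ a ∈ prt u (cent y), st.D a = 1 := fun a ha => by
      show a⁻¹ * st.z⁻¹ * a * st.z = 1
      have h := E.commute C.hy hz1 (IsPEl.not_dvd E.hp hu.out C.hne hz2) (prt_le _ _ ha)
      rw [mul_assoc, ← h]; group
    have h3 : ∀ k, st.D^[k + 2] st.y = 1 := by
      intro k
      induction k with
      | zero => exact h2 _ h1
      | succ k ih => rw [Function.iterate_succ_apply', ih]; exact h2 1 (one_mem _)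
    rw [show u - 1 = u - 3 + 2 by omega, h3]
    exact st.addOn.map_one
  · set N := normalizer (cent y : Set G) with hN
    set A := prt u (cent y) with hA
    have hAN : normalizer (A : Set G) = N := le_antisymm
      (E.normalizer_prt_le C.hne (C.dvd E) C.hy) normalizer_le_prt
    obtain ⟨g, hg⟩ := E.exists_conj_cent C.hy (C.elt E)
    set a := g⁻¹ * v * g with ha
    have hay : a ∈ cent y := by rw [ha, ← mem_cent_conj, hg]; exact self_mem_cent v
    have haA : a ∈ A := mem_prt_of hay (by simpa using IsPEl.conj' C.pEl g⁻¹)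
    have h1 : v * a⁻¹ ∈ (R : Subgroup G) ⊓ _root_.commutator G := by
      refine mem_inf.2 ⟨mul_mem C.mem (inv_mem (C.le haA)), ?_⟩
      have : v * a⁻¹ = ⁅g, a⁆ := by rw [ha, commutatorElement_def]; group
      rw [this]
      exact commutator_mem_commutator (mem_top _) (mem_top _)
    rw [hctrl, hAN] at h1
    have h2 := h1.2
    rw [← map_subtype_commutator] at h2
    obtain ⟨c, hc, hcv⟩ := h2
    have h3 : (QuotientGroup.mk' ((cent y).subgroupOf N)) c ∈ _root_.commutator (Weyl y) := by
      have := mem_map_of_mem (QuotientGroup.mk' ((cent y).subgroupOf N)) hc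
      rw [_root_.commutator_def, map_commutator] at this
      exact commutator_mono le_top le_top this
    have h4 : C.bar E = QuotientGroup.mk' ((cent y).subgroupOf N) c := by
      refine QuotientGroup.eq.2 (mem_subgroupOf.2 ?_)
      show v⁻¹ * (c : G) ∈ cent y
      rw [show (c : G) = v * a⁻¹ from hcv, inv_mul_cancel_left]
      exact inv_mem hay
    rwa [h4]

theorem odd_false (E : Reg G p) (C : Ctx p y v R) (hu2 : u ≠ 2) : False := by
  haveI := C.isZGroup E hu2
  set W := Weyl y
  haveI : IsCyclic (_root_.commutator W) := IsZGroup.isCyclic_commutator W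
  haveI : Nontrivial W := ⟨⟨C.bar E, 1, C.bar_ne_one E⟩⟩
  have hvW := C.bar_mem_commutator E hu2
  have hcomm : ∀ a ∈ _root_.commutator W, Commute a (C.bar E) := by
    intro a ha
    obtain ⟨g, hg⟩ := IsCyclic.exists_generator (α := _root_.commutator W)
    obtain ⟨i, hi⟩ := mem_zpowers_iff.1 (hg ⟨a, ha⟩)
    obtain ⟨j, hj⟩ := mem_zpowers_iff.1 (hg ⟨_, hvW⟩)
    have h := ((Commute.refl g).zpow_zpow i j)
    rw [hi, hj] at h
    exact congrArg Subtype.val h.eq
  -- `W'` has order `u`
  have hW' : _root_.commutator W = zpowers (C.bar E) := by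
    have hall : ∀ {s : ℕ}, s.Prime → s ∣ Nat.card (_root_.commutator W) → s = u := by
      intro s hs hd
      by_contra hsu
      haveI := Fact.mk hs
      obtain ⟨e, he⟩ := exists_prime_orderOf_dvd_card' s hd
      exact C.false_of_commute E hs hsu (by rw [orderOf_coe, he]) (hcomm _ e.2)
    have hc := Nat.eq_prime_pow_of_unique_prime_dvd Nat.card_pos.ne' @hall
    have hle : zpowers (C.bar E) ≤ _root_.commutator W := zpowers_le.2 hvW
    refine (eq_of_le_of_card_ge hle ?_).symm
    rw [Nat.card_zpowers, C.orderOf_bar E, hc]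
    refine le_of_le_of_eq (Nat.pow_le_pow_right hu.out.pos ?_) (pow_one u)
    by_contra hlt
    refine E.not_sq_dvd C.hne C.hy ?_
    calc u ^ 2 ∣ u ^ (Nat.card (_root_.commutator W)).primeFactorsList.length :=
          pow_dvd_pow u (by omega)
      _ ∣ Nat.card W := hc ▸ card_subgroup_dvd_card _
  have hidx : (_root_.commutator W).index ≠ 1 := fun h =>
    (IsZGroup.commutator_lt (G := W)).ne (index_eq_one.1 h)
  obtain ⟨s, hs, hsd⟩ := Nat.exists_prime_and_dvd hidx
  haveI := Fact.mk hs
  have hsW : s ∣ Nat.card W := hsd.trans (index_dvd_card _)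
  have hsu : s ≠ u := fun h => by
    refine hs.not_dvd_one ((IsZGroup.coprime_commutator_index W).gcd_eq_one ▸ Nat.dvd_gcd ?_ hsd)
    rw [hW', Nat.card_zpowers, C.orderOf_bar E, h]
  by_cases hsp : s = p
  · subst hsp
    obtain ⟨t, ht⟩ := exists_prime_orderOf_dvd_card' s hsW
    obtain ⟨q, hq, hqu, hqp, hqd⟩ := exists_good E u
    haveI := Fact.mk hq
    set a := C.bar E with ha
    have htn : zpowers t ≤ normalizer (zpowers a : Set W) := by
      haveI : (zpowers a).Normal := hW' ▸ (inferInstance : (_root_.commutator W).Normal)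
      rw [normalizer_eq_top_iff.2 this]
      exact le_top
    set A := zpowers t ⊔ zpowers a with hA
    have hdisj : zpowers t ⊓ zpowers a = ⊥ := by
      refine inf_eq_bot_of_coprime ?_
      rw [Nat.card_zpowers, Nat.card_zpowers, ht, C.orderOf_bar E]
      exact (Nat.coprime_primes hs hu.out).2 hsu
    have hAc : Nat.card A = s * u := by
      rw [hA, Coprime.card_sup_of_le_normalizer htn hdisj, Nat.card_zpowers, Nat.card_zpowers, ht,
        C.orderOf_bar E]
    obtain ⟨V, _, _, _, φ, hφ⟩ := E.exists_fpf hqp hqd C.hy A (by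
      rw [hAc]
      exact ((Nat.coprime_primes hq hs).2 hqp).mul_right ((Nat.coprime_primes hq hu.out).2 hqu))
    have htA : t ∈ A := mem_sup_left (mem_zpowers t)
    have haA : a ∈ A := mem_sup_right (mem_zpowers a)
    have hc := Frobenius.Fpf.commute_of_conj_mem_zpowers hφ (p := s) (q := u)
      (a := (⟨a, haA⟩ : A)) (b := (⟨t, htA⟩ : A))
      (Subtype.ext (by simpa using orderOf_dvd_iff_pow_eq_one.1 (dvd_of_eq (C.orderOf_bar E))))
      (Subtype.ext (by simpa using orderOf_dvd_iff_pow_eq_one.1 (dvd_of_eq ht))) (by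
        have h := (mem_normalizer_iff.1 (htn (mem_zpowers t)) a).1 (mem_zpowers a)
        obtain ⟨i, hi⟩ := mem_zpowers_iff.1 h
        exact mem_zpowers_iff.2 ⟨i, Subtype.ext (by simpa using hi)⟩)
    exact C.false_of_commute E hs hsu ht (congrArg Subtype.val hc.eq).symm
  · obtain ⟨R', v', C'⟩ := exists_ctx E hsp C.hy (Reg.pp_ne_full hsW)
    by_cases hs2 : s = 2
    · subst hs2
      exact C'.two_false E
    · have h := C'.bar_mem_commutator E hs2
      rw [hW'] at h
      have h2 := orderOf_dvd_of_mem_zpowers h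
      rw [C'.orderOf_bar E, C.orderOf_bar E] at h2
      exact hsu ((Nat.prime_dvd_prime_iff_eq hs hu.out).1 h2)

end Ctx

/-- **Main lemma.** The class size of a `p`-regular element is a power of `p`. -/
theorem Reg.not_dvd_index (E : Reg G p) {y : G} (hy : Elt p y) {r : ℕ} (hr : r.Prime)
    (hne : r ≠ p) : ¬ r ∣ (cent y).index := by
  haveI := Fact.mk hr
  refine factorization_index_eq_zero (by_contra fun h => ?_)
  obtain ⟨R, v, C⟩ := exists_ctx E hne hy h
  by_cases h2 : r = 2
  · subst h2
    exact C.two_false E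
  · exact C.odd_false E h2

end Cfsg.Agent.ClassSize.ThreeSizes
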