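import Cfsg.Agent.Lib.ClassSize.ThreeSizes.Basic
import Cfsg.Agent.Lib.ClassSize.ThreeSizes.MainLemma

/-!
# Three class sizes: a centraliser properly containing another

`Three.exists_uniform`: then `n` and `m` agree at all primes but one.
-/

set_option autoImplicit false
set_option linter.unusedSectionVars false
set_option linter.style.haveILetI false

namespace Cfsg.Agent.ClassSize.ThreeSizes

open Subgroup Cfsg.Agent.ClassSize.CoprimeTop Cfsg.Agent.ClassSize.TwoSteps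

variable {G : Type*} [Group G] [Finite G] {n m p r t : ℕ}

/-- A `p`-element whose centraliser properly contains that of a noncentral element. -/
structure IsTop (p : ℕ) (x : G) : Prop where
  prime : p.Prime
  pel : IsPEl p x
  notMem : x ∉ center G
  above : ∃ w : G, cent w ≤ cent x ∧ cent w ≠ cent x

theorem Three.cl_top (S : Three G n m) {x : G} (T : IsTop p x) : cl x = n := by
  obtain ⟨w, hle, hne⟩ := T.above
  exact (S.cl_of_lt T.notMem hle hne).2

theorem Three.exists_top (S : Three G n m) {a b : G} (hb : b ∉ center G) (hle : cent a ≤ cent b)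
    (hne : cent a ≠ cent b) : ∃ (p : ℕ) (x : G), IsTop p x := by
  obtain ⟨r, y, hr, -, hy, -, hyZ, hby⟩ := exists_primary hb
  refine ⟨r, y, hr, hy, hyZ, a, hle.trans hby, fun h => ?_⟩
  have h1 := (S.cl_of_lt hb hle hne).1
  have h2 := (S.cl_of_lt hb hle hne).2
  have h3 := cl_dvd hby
  rw [show cl y = m by rw [cl, ← h, ← cl, h1], h2] at h3
  have := Nat.le_of_dvd (by have := S.one_lt; omega) h3
  have := S.lt
  omega

/-- A coprime element of the centraliser of an element of the largest class size is central there. -/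
theorem Three.le_cent_of_cl (S : Three G n m) {g z : G} (hg : cl g = m) (hz : z ∈ cent g)
    (hco : (orderOf g).Coprime (orderOf z)) : cent g ≤ cent z := by
  have h := cent_mul_coprime (mem_cent.1 hz) hco
  by_contra hne
  have hlt : cent (g * z) ≠ cent g := fun e => hne ((e ▸ h : cent g = cent g ⊓ cent z).le.trans inf_le_right)
  have := (S.cl_of_lt (S.notMem (Or.inr hg)) (h ▸ inf_le_left) hlt).2
  rw [hg] at this
  exact S.lt.ne this.symm

theorem Three.cl_mul (S : Three G n m) {e z C : G} (he : cent e = cent C) (hC : C ∉ center G)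
    (hz : z ∈ cent C) (hco : (orderOf e).Coprime (orderOf z)) (hne : ¬ cent C ≤ cent z) :
    cl (e * z) = m ∧ cent (e * z) = cent C ⊓ cent z := by
  have h := cent_mul_coprime (mem_cent.1 (show z ∈ cent e from he ▸ hz)) hco
  rw [he] at h
  refine ⟨(S.cl_of_lt hC (h ▸ inf_le_left) fun e' => hne ?_).1, h⟩
  exact (e' ▸ h : cent C = cent C ⊓ cent z).le.trans inf_le_right

theorem card_dvd_of_cl_dvd {a b : G} (h : cl a ∣ cl b) : Nat.card (cent b) ∣ Nat.card (cent a) := by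
  obtain ⟨k, hk⟩ := h
  refine ⟨k, Nat.eq_of_mul_eq_mul_right (cl_pos a) ?_⟩
  show Nat.card (cent a) * cl a = Nat.card (cent b) * k * cl a
  have h1 := card_mul_index (cent a)
  have h2 := card_mul_index (cent b)
  simp only [cl] at hk ⊢
  rw [h1, ← h2, hk]; ring

theorem Three.pp_le_top (S : Three G n m) {x : G} (T : IsTop p x) {g : G} (hg : g ∉ center G)
    [hr : Fact r.Prime] : pp r (cent g) ≤ pp r (cent x) := by
  obtain ⟨w, hle, hne⟩ := T.above
  obtain ⟨hwm, hxn⟩ := S.cl_of_lt T.notMem hle hne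
  have hnm : n ∣ m := hwm ▸ hxn ▸ cl_dvd hle
  have h1 : cl x ∣ cl g := by
    rw [hxn]
    rcases S.noncentral hg with h | h <;> rw [h]
    exact hnm
  exact Nat.pow_le_pow_right hr.out.pos ((Nat.factorization_le_iff_dvd Nat.card_pos.ne'
    Nat.card_pos.ne').2 (card_dvd_of_cl_dvd h1) r)

/-- Every relevant prime has a noncentral element in the centraliser of a top element. -/
theorem Three.exists_mem_top (S : Three G n m) {x : G} (T : IsTop p x) (hr : r.Prime)
    (hd : r ∣ (center G).index) : ∃ v ∈ cent x, IsPEl r v ∧ v ∉ center G := by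
  haveI := Fact.mk hr
  obtain ⟨v, -, hvZ, hlt⟩ := exists_cent_gt hd
  exact exists_pEl_of_lt (hlt.trans_le (S.pp_le_top T hvZ))

/-- `C ≤ cent v` for noncentral `v` forces equality at a top element. -/
theorem Three.cent_eq_top (S : Three G n m) {x v : G} (T : IsTop p x) (hv : v ∉ center G)
    (h : cent x ≤ cent v) : cent v = cent x := by
  by_contra hne
  have h1 := (S.cl_of_lt hv h (fun e => hne e.symm)).1
  rw [S.cl_top T] at h1
  exact S.lt.ne h1

/-- If the `r`-parts of `D` and `C` agree then so do those of `m` and `n`. -/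
theorem factorization_eq_of_pp {a b : G} [hr : Fact r.Prime] (ha : cl a = n) (hb : cl b = m)
    (h : pp r (cent a) = pp r (cent b)) : n.factorization r = m.factorization r := by
  have h1 := pp_mul_cl (p := r) a
  have h2 := pp_mul_cl (p := r) b
  rw [h, ← h2, ha, hb] at h1
  exact Nat.pow_right_injective hr.out.two_le
    (Nat.eq_of_mul_eq_mul_left (pow_pos hr.out.pos _) h1)

/-- The main lemma inside the centraliser of a top element. -/
theorem Three.pp_eq_of_abelian (S : Three G n m) {x : G}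
    (hp : p.Prime)
    (hab : ∀ g ∈ cent x, ¬ p ∣ orderOf g → ¬ cent x ≤ cent g →
      ∃ d : G, cl d = m ∧ cent d = cent x ⊓ cent g ∧
        ∀ a ∈ cent d, ∀ b ∈ cent d, a * b = b * a)
    (htwo : ∃ t q : ℕ, t.Prime ∧ q.Prime ∧ t ≠ q ∧ t ≠ p ∧ q ≠ p ∧
      (∃ v ∈ cent x, IsPEl t v ∧ ¬ cent x ≤ cent v) ∧
      (∃ v ∈ cent x, IsPEl q v ∧ ¬ cent x ≤ cent v))
    {r : ℕ} (hr : r.Prime) (hrp : r ≠ p) {g : G} (hg : g ∈ cent x) (hgp : ¬ p ∣ orderOf g)
    (hne : ¬ cent x ≤ cent g) : pp r (cent x ⊓ cent g) = pp r (cent x) := by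
  set C := cent x with hC
  have hcC : ∀ a : C, cent a = (cent (a : G)).subgroupOf C := fun a => by
    ext b
    rw [mem_subgroupOf, mem_cent, mem_cent]
    exact Subtype.ext_iff
  have hcen : ∀ a : C, a ∉ center C ↔ ¬ C ≤ cent (a : G) := fun a => by
    rw [mem_center_iff]
    refine ⟨fun h hle => h fun b => Subtype.ext (mem_cent.1 (hle b.2)).symm, fun h h' => h ?_⟩
    exact fun b hb => mem_cent.2 (congrArg Subtype.val (h' ⟨b, hb⟩)).symm
  have hcard : ∀ (a : C) (s : ℕ), pp s (cent a) = pp s (C ⊓ cent (a : G)) := fun a s => by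
    rw [hcC, ← inf_subgroupOf_left, pp, pp,
      Nat.card_congr (subgroupOfEquivOfLe inf_le_left).toEquiv]
  have hel : ∀ a : C, Elt p a → ¬ p ∣ orderOf (a : G) ∧ ¬ C ≤ cent (a : G) := fun a ha =>
    ⟨Subgroup.orderOf_coe a ▸ ha.1, (hcen a).1 ha.2⟩
  have hmk : ∀ {s : ℕ}, (hs : s.Prime) → (∃ v ∈ C, IsPEl s v ∧ ¬ C ≤ cent v) →
      s ∣ (center C).index := by
    intro s hs ⟨v, hv, hvs, hvC⟩
    haveI := Fact.mk hs
    exact dvd_index_center (G := C) (v := ⟨v, hv⟩) (hvs.imp fun _ h => Subtype.ext h) ((hcen _).2 hvC)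
  obtain ⟨t, q, ht, hq, htq, htp, hqp, hvt, hvq⟩ := htwo
  have E : Reg C p :=
    { hp := hp
      eq := fun a b ha hb hba => by
        obtain ⟨da, hda, hda', hda''⟩ := hab a a.2 (hel a ha).1 (hel a ha).2
        obtain ⟨db, hdb, hdb', -⟩ := hab b b.2 (hel b hb).1 (hel b hb).2
        have hbD : (b : G) ∈ cent da := by
          rw [hda']
          rw [hcC a, mem_subgroupOf] at hba
          exact ⟨b.2, hba⟩
        have hle : cent da ≤ cent db := by
          rw [hdb']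
          exact le_inf (hda'.le.trans inf_le_left) fun v hv => mem_cent.2 (hda'' _ hbD v hv)
        have heq := eq_of_le_of_cl hle (by rw [hda, hdb])
        rw [hda', hdb'] at heq
        rw [hcC a, hcC b, ← inf_subgroupOf_left, ← heq, inf_subgroupOf_left]
      card := fun a b ha hb s _ _ => by
        obtain ⟨da, hda, hda', -⟩ := hab a a.2 (hel a ha).1 (hel a ha).2
        obtain ⟨db, hdb, hdb', -⟩ := hab b b.2 (hel b hb).1 (hel b hb).2
        rw [hcard, hcard, ← hda', ← hdb']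
        exact pp_eq_of_cl_eq s (hda.trans hdb.symm)
      two := ⟨t, q, ht, hq, htq, htp, hqp, hmk ht hvt, hmk hq hvq⟩ }
  have ha : Elt p (⟨g, hg⟩ : C) := ⟨by rw [← Subgroup.orderOf_coe]; exact hgp, (hcen _).2 hne⟩
  have h1 := E.not_dvd_index ha hr hrp
  haveI := Fact.mk hr
  have h2 := factorization_index (p := r) (cent (⟨g, hg⟩ : C))
  rw [Nat.factorization_eq_zero_of_not_dvd h1, add_zero] at h2
  rw [← hcard ⟨g, hg⟩ r, pp, pp, h2]

theorem comm_of_primary {D : Subgroup G}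
    (h : ∀ (ℓ : ℕ) (g : G), ℓ.Prime → g ∈ D → IsPEl ℓ g → D ≤ cent g) :
    ∀ a ∈ D, ∀ b ∈ D, a * b = b * a := fun a ha b hb =>
  mem_cent.1 (mem_of_forall_primary fun _ hs y hy hys =>
    cent_comm.1 (h _ y hs (zpowers_le.2 hb hy) hys ha))

/-- Noncentral elements of a top centraliser commute with such elements of a second prime. -/
theorem Three.exists_other (S : Three G n m) {x e z z' : G} (he : cent e = cent x)
    (hx : x ∉ center G) (hz : z ∈ cent x) (hz' : z' ∈ cent x) (hne : ¬ cent x ≤ cent z)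
    (hne' : ¬ cent x ≤ cent z') {t t' : ℕ} [ht' : Fact t'.Prime] (hez : (orderOf e).Coprime (orderOf z))
    (hzt : IsPEl t z) (hzt' : IsPEl t' z') {e' : G} (he' : cent e' = cent x)
    (he'z' : (orderOf e').Coprime (orderOf z')) :
    ∃ w ∈ cent x ⊓ cent z, IsPEl t' w ∧ ¬ cent x ≤ cent w := by
  by_contra hc
  push Not at hc
  obtain ⟨hm1, hD⟩ := S.cl_mul he hx hz hez hne
  obtain ⟨hm2, hD'⟩ := S.cl_mul he' hx hz' he'z' hne'
  have heq : pp t' (cent x ⊓ cent z) = pp t' (cent x ⊓ cent z') := by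
    rw [← hD, ← hD']; exact pp_eq_of_cl_eq t' (hm1.trans hm2.symm)
  obtain ⟨W, hW, hWp, hWc⟩ := exists_pp_subgroup t' (cent x ⊓ cent z)
  have hWn : W ≤ normalizer (zpowers z' : Set G) := fun w hw =>
    centralizer_le_normalizer _ (mem_centralizer_iff.2 fun y hy => by
      obtain ⟨i, rfl⟩ := mem_zpowers_iff.1 hy
      have h := hc w (hW hw) (isPEl_of_mem hWp hw) hz'
      exact ((show Commute w z' from mem_cent.1 h).zpow_right i).eq.symm)
  have hp' : IsPGroup t' ↥(W ⊔ zpowers z') := hWp.to_sup_of_normal_right' hzt'.isPGroup_zpowers hWn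
  have hle : W ⊔ zpowers z' ≤ cent x ⊓ cent z' := by
    refine sup_le (fun w hw => ⟨(hW hw).1, ?_⟩) (zpowers_le.2 ⟨hz', self_mem_cent z'⟩)
    exact cent_comm.1 (hc w (hW hw) (isPEl_of_mem hWp hw) hz')
  have h1 := card_le_pp hle hp'
  rw [← heq, ← hWc] at h1
  have h2 := eq_of_le_of_card_ge (le_sup_left : W ≤ W ⊔ zpowers z') h1
  have h3 : z' ∈ W := h2.symm ▸ mem_sup_right (mem_zpowers z')
  exact hne' (hc z' (hW h3) hzt')

/-- A top centre involving two primes. -/
theorem Three.uniform_of_two (S : Three G n m) (hns : ¬ Group.IsSolvable G) {x y : G}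
    (T : IsTop p x) (hr : r.Prime) (hrp : r ≠ p) (hy : IsPEl r y) (hyx : cent y = cent x) :
    ∃ s : ℕ, s.Prime ∧ ∀ ℓ : ℕ, ℓ.Prime → ℓ ≠ s → n.factorization ℓ = m.factorization ℓ := by
  classical
  set C := cent x with hC
  have hp := T.prime
  -- centre elements avoiding a prime
  have hE : ∀ t : ℕ, ∃ (a : ℕ) (e : G), a.Prime ∧ a ≠ t ∧ (a = p ∨ a = r) ∧ IsPEl a e ∧
      cent e = C := fun t => by
    rcases eq_or_ne p t with h | h
    · exact ⟨r, y, hr, h ▸ hrp, Or.inr rfl, hy, hyx⟩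
    · exact ⟨p, x, hp, h, Or.inl rfl, T.pel, rfl⟩
  have hD : ∀ {t : ℕ} {z : G}, t.Prime → z ∈ C → IsPEl t z → ¬ C ≤ cent z →
      ∃ d, cl d = m ∧ cent d = C ⊓ cent z := by
    intro t z ht hz hzt hne
    obtain ⟨a, e, ha, hat, -, he, hec⟩ := hE t
    exact ⟨e * z, S.cl_mul hec T.notMem hz (he.coprime ha ht hat hzt) hne⟩
  obtain ⟨t₀, z₀, ht₀, hz₀, hz₀t, hz₀ne⟩ : ∃ (t : ℕ) (z : G), t.Prime ∧ z ∈ C ∧ IsPEl t z ∧
      ¬ C ≤ cent z := by
    by_contra hc
    push Not at hc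
    obtain ⟨w, hle, hne⟩ := T.above
    refine hne (le_antisymm hle fun v hv => mem_cent.2 ?_)
    exact comm_of_primary (fun ℓ g hℓ hg hgl => hc ℓ g hℓ hg hgl) w (hle (self_mem_cent w)) v hv
  by_cases hone : ∀ (t' : ℕ) (z' : G), t'.Prime → z' ∈ C → IsPEl t' z' → t' ≠ t₀ → C ≤ cent z'
  · refine ⟨t₀, ht₀, fun ℓ hℓ hℓt => ?_⟩
    haveI := Fact.mk hℓ
    obtain ⟨d, hdm, hd⟩ := hD ht₀ hz₀ hz₀t hz₀ne
    refine factorization_eq_of_pp (S.cl_top T) hdm (le_antisymm ?_ ?_)
    · obtain ⟨W, hW, hWl, hWc⟩ := exists_pp_subgroup ℓ C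
      rw [← hWc, hd]
      exact card_le_pp (fun w hw => ⟨hW hw,
        cent_comm.1 (hone ℓ w hℓ (hW hw) (isPEl_of_mem hWl hw) hℓt hz₀)⟩) hWl
    · rw [hd]; exact pp_mono inf_le_left
  exfalso
  push Not at hone
  obtain ⟨t₁, z₁, ht₁, hz₁, hz₁t, ht₁t, hz₁ne⟩ := hone
  obtain ⟨l, hl, hlp, hlr, hld⟩ := exists_third hns p r
  obtain ⟨v, hv, hvl, hvZ⟩ := S.exists_mem_top T hl hld
  -- the centralisers in `C` are abelian
  have habD : ∀ {t : ℕ} {z : G}, t.Prime → z ∈ C → IsPEl t z → ¬ C ≤ cent z →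
      ∀ a ∈ C ⊓ cent z, ∀ b ∈ C ⊓ cent z, a * b = b * a := by
    intro t z ht hz hzt hne
    have covz : ∀ {z' : G} {t' a : ℕ} {e : G}, t'.Prime → z' ∈ C → IsPEl t' z' → ¬ C ≤ cent z' →
        C ⊓ cent z' = C ⊓ cent z → a.Prime → a ≠ t' → IsPEl a e → cent e = C →
        ∀ {ℓ : ℕ} {g : G}, ℓ.Prime → ℓ ≠ a → ℓ ≠ t' → g ∈ C ⊓ cent z → IsPEl ℓ g →
          C ⊓ cent z ≤ cent g := by
      intro z' t' a e ht' hz' hz't hne' heq ha hat he hec ℓ g hℓ hℓa hℓt hg hgl
      obtain ⟨hm', hc'⟩ := S.cl_mul hec T.notMem hz' (he.coprime ha ht' hat hz't) hne'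
      rw [← heq, ← hc']
      refine S.le_cent_of_cl hm' (by rw [hc', heq]; exact hg) ?_
      have h1 : orderOf (e * z') = orderOf e * orderOf z' :=
        (show Commute e z' from mem_cent.1 (hec.symm ▸ hz' : z' ∈ cent e)).orderOf_mul_eq_mul_orderOf_of_coprime
          (he.coprime ha ht' hat hz't)
      rw [h1]
      exact Nat.Coprime.mul_left (he.coprime ha hℓ hℓa.symm hgl) (hz't.coprime ht' hℓ hℓt.symm hgl)
    have valid : ∀ {t' : ℕ} {z' : G}, z' ∈ C ⊓ cent z → ¬ C ≤ cent z' → IsPEl t' z' → t'.Prime →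
        C ⊓ cent z ≤ cent z' → C ⊓ cent z' = C ⊓ cent z := by
      intro t' z' hz' hne' hzt' ht' hle
      obtain ⟨d1, hd1, hd1'⟩ := hD ht hz hzt hne
      obtain ⟨d2, hd2, hd2'⟩ := hD ht' hz'.1 hzt' hne'
      have : cent d1 ≤ cent d2 := by rw [hd1', hd2']; exact le_inf inf_le_left hle
      rw [← hd1', ← hd2', eq_of_le_of_cl this (by rw [hd1, hd2])]
    have getOther : ∀ {t' : ℕ}, t'.Prime → (∃ z' ∈ C, IsPEl t' z' ∧ ¬ C ≤ cent z') →
        ∀ {a : ℕ} {e : G}, a.Prime → a ≠ t → a ≠ t' → t' ≠ t → IsPEl a e → cent e = C →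
        ∃ z' ∈ C ⊓ cent z, IsPEl t' z' ∧ ¬ C ≤ cent z' ∧ C ⊓ cent z' = C ⊓ cent z := by
      intro t' ht' ⟨z', hz', hz't, hne'⟩ a e ha hat hat' htt he hec
      haveI := Fact.mk ht'
      obtain ⟨w, hw, hwt, hwne⟩ := S.exists_other hec T.notMem hz hz' hne hne'
        (he.coprime ha ht hat hzt) hzt hz't hec (he.coprime ha ht' hat' hz't)
      exact ⟨w, hw, hwt, hwne, valid hw hwne hwt ht'
        (covz ht hz hzt hne rfl ha hat he hec ht' hat'.symm htt hw hwt)⟩
    refine comm_of_primary fun ℓ g hℓ hg hgl => ?_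
    rcases eq_or_ne ℓ t with hℓt | hℓt
    · subst hℓt
      -- a second prime `t'` and a centre prime avoiding both
      obtain ⟨t', hz', ht', htt, a, e, ha, hat, hat', he, hec⟩ : ∃ t' : ℕ,
          (∃ z' ∈ C, IsPEl t' z' ∧ ¬ C ≤ cent z') ∧ t'.Prime ∧ t' ≠ ℓ ∧ ∃ (a : ℕ) (e : G), a.Prime ∧
            a ≠ ℓ ∧ a ≠ t' ∧ IsPEl a e ∧ cent e = C := by
        obtain ⟨t', hz', ht', htt⟩ : ∃ t' : ℕ, (∃ z' ∈ C, IsPEl t' z' ∧ ¬ C ≤ cent z') ∧
            t'.Prime ∧ t' ≠ ℓ := by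
          rcases eq_or_ne t₁ ℓ with h | h
          · exact ⟨t₀, ⟨z₀, hz₀, hz₀t, hz₀ne⟩, ht₀, fun hc => ht₁t (h.trans hc.symm)⟩
          · exact ⟨t₁, ⟨z₁, hz₁, hz₁t, hz₁ne⟩, ht₁, h⟩
        by_cases hvC : C ≤ cent v
        · have hvc := S.cent_eq_top T hvZ hvC
          rcases eq_or_ne l ℓ with h | h
          · obtain ⟨a, e, ha, hat', hor, he, hec⟩ := hE t'
            exact ⟨t', hz', ht', htt, a, e, ha, fun hh => by rcases hor with e' | e' <;> omega,
              hat', he, hec⟩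
          · rcases eq_or_ne l t' with h' | h'
            · obtain ⟨a, e, ha, hat, hor, he, hec⟩ := hE ℓ
              exact ⟨t', hz', ht', htt, a, e, ha, hat,
                fun hh => by rcases hor with e' | e' <;> omega, he, hec⟩
            · exact ⟨t', hz', ht', htt, l, v, hl, h, h', hvl, hvc⟩
        · rcases eq_or_ne l ℓ with h | h
          · obtain ⟨a, e, ha, hat', hor, he, hec⟩ := hE t'
            exact ⟨t', hz', ht', htt, a, e, ha, fun hh => by rcases hor with e' | e' <;> omega,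
              hat', he, hec⟩
          · obtain ⟨a, e, ha, hat, hor, he, hec⟩ := hE ℓ
            exact ⟨l, ⟨v, hv, hvl, hvC⟩, hl, h, a, e, ha, hat,
              fun hh => by rcases hor with e' | e' <;> omega, he, hec⟩
      obtain ⟨z', hz'D, hz't, hne', heq⟩ := getOther ht' hz' ha hat hat' htt he hec
      exact covz ht' hz'D.1 hz't hne' heq ha hat' he hec hℓ hat.symm htt.symm hg hgl
    · by_cases hex : ∃ (a : ℕ) (e : G), a.Prime ∧ a ≠ t ∧ a ≠ ℓ ∧ IsPEl a e ∧ cent e = C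
      · obtain ⟨a, e, ha, hat, haℓ, he, hec⟩ := hex
        exact covz ht hz hzt hne rfl ha hat he hec hℓ haℓ.symm hℓt hg hgl
      push Not at hex
      have hlt : l ≠ t ∧ l ≠ ℓ ∧ ¬ C ≤ cent v := by
        have hpl : p = t ∨ p = ℓ := by
          by_contra h
          obtain ⟨h1, h2⟩ := not_or.1 h
          exact hex p x hp h1 h2 T.pel rfl
        have hrl : r = t ∨ r = ℓ := by
          by_contra h
          obtain ⟨h1, h2⟩ := not_or.1 h
          exact hex r y hr h1 h2 hy hyx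
        refine ⟨by omega, by omega, fun hvC => ?_⟩
        exact hex l v hl (by omega) (by omega) hvl (S.cent_eq_top T hvZ hvC)
      obtain ⟨a, e, ha, hat, hor, he, hec⟩ := hE t
      obtain ⟨z', hz'D, hz't, hne', heq⟩ := getOther hl ⟨v, hv, hvl, hlt.2.2⟩ ha hat
        (by rcases hor with h | h <;> omega) hlt.1 he hec
      obtain ⟨a', e', ha', ha'ℓ, hor', he', hec'⟩ := hE ℓ
      exact covz hl hz'D.1 hz't hne' heq ha' (by rcases hor' with h | h <;> omega) he' hec' hℓ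
        ha'ℓ.symm hlt.2.1.symm hg hgl
  obtain ⟨P, hPge, hP⟩ := Nat.exists_infinite_primes (Nat.card G + 1)
  have hPd : ∀ g : G, ¬ P ∣ orderOf g := fun g h => by
    have := Nat.le_of_dvd Nat.card_pos (h.trans (orderOf_dvd_natCard g))
    omega
  have hPt : ∀ {t : ℕ} {z : G}, t.Prime → IsPEl t z → ¬ C ≤ cent z → t ≠ P := by
    intro t z ht hzt hne h
    obtain ⟨k, hk⟩ := hzt.orderOf_dvd
    have h1 : orderOf z ≠ 1 := fun h1 => hne (by
      rw [orderOf_eq_one_iff.1 h1]; exact fun v _ => mem_cent.2 (by simp))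
    obtain ⟨d, hd, hdd⟩ := Nat.exists_prime_and_dvd h1
    exact hPd z ((h ▸ (Nat.prime_dvd_prime_iff_eq hd ht).1 (hd.dvd_of_dvd_pow (hdd.trans hk))) ▸ hdd)
  have hgen : ∀ g ∈ C, ¬ C ≤ cent g → ∃ d : G, cl d = m ∧ cent d = C ⊓ cent g ∧
      ∀ a ∈ cent d, ∀ b ∈ cent d, a * b = b * a := by
    intro g hg hne
    obtain ⟨s, y', hs, hy'm, hy's, hy'ne⟩ : ∃ (s : ℕ) (y' : G), s.Prime ∧ y' ∈ zpowers g ∧
        IsPEl s y' ∧ ¬ C ≤ cent y' := by
      by_contra hcon
      push Not at hcon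
      exact hne fun a ha => cent_comm.1 (mem_of_forall_primary fun s hs y hy hys =>
        cent_comm.1 (hcon s y hs hy hys ha))
    have hy'C : y' ∈ C := zpowers_le.2 hg hy'm
    obtain ⟨d, hd, hd'⟩ := hD hs hy'C hy's hy'ne
    have hcomm := habD hs hy'C hy's hy'ne
    have heq : C ⊓ cent g = C ⊓ cent y' := by
      refine le_antisymm (inf_le_inf_left _ (cent_le_of_mem_zpowers hy'm))
        (le_inf inf_le_left fun a ha => mem_cent.2 ?_)
      exact hcomm g ⟨hg, cent_le_of_mem_zpowers hy'm (self_mem_cent g)⟩ a ha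
    exact ⟨d, hd, hd'.trans heq.symm, by rw [hd']; exact hcomm⟩
  have hkey : ∀ ℓ : ℕ, ℓ.Prime → ℓ ∣ Nat.card G → pp ℓ (C ⊓ cent z₀) = pp ℓ C := fun ℓ hℓ hd =>
    S.pp_eq_of_abelian hP (fun g hg _ hne => hgen g hg hne)
      ⟨t₀, t₁, ht₀, ht₁, ht₁t.symm, hPt ht₀ hz₀t hz₀ne, hPt ht₁ hz₁t hz₁ne, ⟨z₀, hz₀, hz₀t, hz₀ne⟩,
        ⟨z₁, hz₁, hz₁t, hz₁ne⟩⟩ hℓ
      (fun h => by have := Nat.le_of_dvd Nat.card_pos (h ▸ hd); omega) hz₀ (hPd z₀) hz₀ne
  refine hz₀ne ?_
  have hcard : Nat.card C ≤ Nat.card ↥(C ⊓ cent z₀) := by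
    refine Nat.le_of_dvd Nat.card_pos ((Nat.factorization_le_iff_dvd Nat.card_pos.ne'
      Nat.card_pos.ne').1 fun ℓ => ?_)
    by_cases hℓ : ℓ.Prime ∧ ℓ ∣ Nat.card G
    · exact (Nat.pow_right_injective hℓ.1.two_le (hkey ℓ hℓ.1 hℓ.2)).ge
    · rw [not_and_or] at hℓ
      rcases hℓ with h | h
      · rw [Nat.factorization_eq_zero_of_not_prime _ h]; exact Nat.zero_le _
      · rw [Nat.factorization_eq_zero_of_not_dvd fun hd => h (hd.trans (card_subgroup_dvd_card C))]
        exact Nat.zero_le _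
  exact (eq_of_le_of_card_ge inf_le_left hcard).ge.trans inf_le_right

/-- A centraliser properly containing another makes `n` and `m` agree outside one prime. -/
theorem Three.exists_uniform (S : Three G n m) (hns : ¬ Group.IsSolvable G) {p : ℕ} {x : G}
    (T : IsTop p x) :
    ∃ s : ℕ, s.Prime ∧ ∀ ℓ : ℕ, ℓ.Prime → ℓ ≠ s → n.factorization ℓ = m.factorization ℓ := by
  by_cases h2 : ∃ (p r : ℕ) (x y : G), IsTop p x ∧ r.Prime ∧ r ≠ p ∧ IsPEl r y ∧ cent y = cent x
  · obtain ⟨p', r, x', y, T', hr, hrp, hy, hyx⟩ := h2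
    exact S.uniform_of_two hns T' hr hrp hy hyx
  push Not at h2
  set C := cent x with hC
  have hp := T.prime
  have hnc : ∀ {t : ℕ} {v : G}, t.Prime → t ≠ p → IsPEl t v → v ∉ center G → ¬ C ≤ cent v :=
    fun {t} {v} ht htp hv hvZ hle => h2 p t x v T ht htp hv (S.cent_eq_top T hvZ hle)
  have habD : ∀ {t : ℕ} {z : G}, t.Prime → t ≠ p → z ∈ C → IsPEl t z → ¬ C ≤ cent z →
      ∀ a ∈ C ⊓ cent z, ∀ b ∈ C ⊓ cent z, a * b = b * a := by
    intro t z ht htp hz hzt hne
    obtain ⟨hm, hD⟩ := S.cl_mul (e := x) rfl T.notMem hz (T.pel.coprime hp ht htp.symm hzt) hne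
    obtain ⟨t', ht', ht'p, ht't, htd⟩ := exists_third hns p t
    haveI := Fact.mk ht'
    obtain ⟨v, hv, hvt, hvZ⟩ := S.exists_mem_top T ht' htd
    obtain ⟨w, hw, hwt, hwne⟩ := S.exists_other (e := x) (e' := x) rfl T.notMem hz hv hne
      (hnc ht' ht'p hvt hvZ) (T.pel.coprime hp ht htp.symm hzt) hzt hvt rfl
      (T.pel.coprime hp ht' ht'p.symm hvt)
    have hord : ∀ {a b : G} {i j : ℕ}, i.Prime → j.Prime → i ≠ j → IsPEl i a → IsPEl j b →
        a * b = b * a → ∀ {ℓ : ℕ} {g : G}, ℓ.Prime → ℓ ≠ i → ℓ ≠ j → IsPEl ℓ g →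
        (orderOf (a * b)).Coprime (orderOf g) := by
      intro a b i j hi hj hij ha hb hab ℓ g hℓ hli hlj hg
      rw [(show Commute a b from hab).orderOf_mul_eq_mul_orderOf_of_coprime (ha.coprime hi hj hij hb)]
      exact Nat.Coprime.mul_left (ha.coprime hi hℓ hli.symm hg) (hb.coprime hj hℓ hlj.symm hg)
    have cov1 : ∀ {ℓ : ℕ} {g : G}, ℓ.Prime → ℓ ≠ p → ℓ ≠ t → g ∈ C ⊓ cent z → IsPEl ℓ g →
        C ⊓ cent z ≤ cent g := fun hℓ hℓp hℓt hg hgl => by
      rw [← hD]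
      exact S.le_cent_of_cl hm (hD ▸ hg) (hord hp ht htp.symm T.pel hzt (mem_cent.1 hz) hℓ hℓp hℓt hgl)
    have hwD := cov1 ht' ht'p ht't hw hwt
    obtain ⟨hm', hD'⟩ := S.cl_mul (e := x) rfl T.notMem hw.1 (T.pel.coprime hp ht' ht'p.symm hwt) hwne
    have heq : C ⊓ cent w = C ⊓ cent z := by
      have hle : cent (x * z) ≤ cent (x * w) := by rw [hD, hD']; exact le_inf inf_le_left hwD
      rw [← hD, ← hD', eq_of_le_of_cl hle (by rw [hm, hm'])]
    refine comm_of_primary fun ℓ g hℓ hg hgl => ?_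
    rcases eq_or_ne ℓ p with hℓp | hℓp
    · subst hℓp
      have hzw : z * w = w * z := mem_cent.1 hw.2
      have hco := hzt.coprime ht ht' ht't.symm hwt
      have hcm := cent_mul_coprime hzw hco
      have hle : C ⊓ cent z ≤ cent (z * w) := by rw [hcm]; exact le_inf inf_le_right hwD
      have hzwZ : z * w ∉ center G := fun hZ => hne (by
        have h1 : cent (z * w) = ⊤ := index_eq_one.1 (cl_eq_one.2 hZ)
        rw [hcm, inf_eq_top_iff] at h1
        exact h1.1 ▸ le_top)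
      rcases S.noncentral hzwZ with hn' | hm''
      · exfalso
        have hzZ : z ∉ center G := fun hZ => hne fun v hv =>
          mem_cent.2 ((mem_center_iff.1 hZ v)).symm
        have hzn : cent (z * w) = cent z := by
          by_contra hne'
          have := (S.cl_of_lt hzZ (hcm ▸ inf_le_left) hne').1
          rw [hn'] at this; exact S.lt.ne this
        have hwZ : w ∉ center G := fun hZ => hwne fun v hv =>
          mem_cent.2 ((mem_center_iff.1 hZ v)).symm
        have hwn : cent (z * w) = cent w := by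
          by_contra hne'
          have := (S.cl_of_lt hwZ (hcm ▸ inf_le_right) hne').1
          rw [hn'] at this; exact S.lt.ne this
        refine h2 t t' z w ⟨ht, hzt, hzZ, x * z, ?_, ?_⟩ ht' ht't hwt (hwn.symm.trans hzn)
        · rw [hD]; exact inf_le_right
        · intro e
          have : cl (x * z) = cl z := by rw [cl, cl, e]
          rw [hm, ← show cl (z * w) = cl z by rw [cl, cl, hzn], hn'] at this
          exact S.lt.ne this.symm
      · have heq2 : cent (z * w) = C ⊓ cent z := by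
          rw [← hD]
          exact (eq_of_le_of_cl (hD ▸ hle) (by rw [hm, hm''])).symm
        rw [← heq2]
        exact S.le_cent_of_cl hm'' (heq2 ▸ hg)
          (hord ht ht' ht't.symm hzt hwt hzw hℓ htp.symm ht'p.symm hgl)
    · rcases eq_or_ne ℓ t with hℓt | hℓt
      · subst hℓt
        rw [← heq, ← hD']
        exact S.le_cent_of_cl hm' (by rw [hD', heq]; exact hg)
          (hord hp ht' ht'p.symm T.pel hwt (mem_cent.1 hw.1) hℓ hℓp ht't.symm hgl)
      · exact cov1 hℓ hℓp hℓt hg hgl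
  have hgen : ∀ g ∈ C, ¬ p ∣ orderOf g → ¬ C ≤ cent g → ∃ d : G, cl d = m ∧ cent d = C ⊓ cent g ∧
      ∀ a ∈ cent d, ∀ b ∈ cent d, a * b = b * a := by
    intro g hg hgp hne
    obtain ⟨s, y', hs, hy'm, hy's, hy'ne⟩ : ∃ (s : ℕ) (y' : G), s.Prime ∧ y' ∈ zpowers g ∧
        IsPEl s y' ∧ ¬ C ≤ cent y' := by
      by_contra hcon
      push Not at hcon
      exact hne fun a ha => cent_comm.1 (mem_of_forall_primary fun s hs y hy hys =>
        cent_comm.1 (hcon s y hs hy hys ha))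
    have hy'C : y' ∈ C := zpowers_le.2 hg hy'm
    have hsp : s ≠ p := by
      intro h
      obtain ⟨i, hi⟩ := mem_zpowers_iff.1 hy'm
      obtain ⟨k, hk⟩ := hy's.orderOf_dvd
      have h1 : orderOf y' ≠ 1 := fun h1 => hy'ne (by
        rw [orderOf_eq_one_iff.1 h1]; exact fun v _ => mem_cent.2 (by simp))
      obtain ⟨d, hd, hdd⟩ := Nat.exists_prime_and_dvd h1
      refine hgp ((dvd_of_eq ?_).trans (hdd.trans (orderOf_dvd_of_mem_zpowers hy'm)))
      rw [(Nat.prime_dvd_prime_iff_eq hd hs).1 (hd.dvd_of_dvd_pow (hdd.trans hk)), h]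
    obtain ⟨hm, hD⟩ := S.cl_mul (e := x) rfl T.notMem hy'C (T.pel.coprime hp hs hsp.symm hy's) hy'ne
    have hcomm := habD hs hsp hy'C hy's hy'ne
    have heq : C ⊓ cent g = C ⊓ cent y' := by
      refine le_antisymm (inf_le_inf_left _ (cent_le_of_mem_zpowers hy'm))
        (le_inf inf_le_left fun a ha => mem_cent.2 ?_)
      exact hcomm g ⟨hg, cent_le_of_mem_zpowers hy'm (self_mem_cent g)⟩ a ha
    exact ⟨x * y', hm, hD.trans heq.symm, by rw [hD]; exact hcomm⟩
  obtain ⟨t, ht, htp, -, htd⟩ := exists_third hns p p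
  obtain ⟨q, hq, hqp, hqt, hqd⟩ := exists_third hns p t
  obtain ⟨z, hz, hzt, hzZ⟩ := S.exists_mem_top T ht htd
  obtain ⟨z', hz', hz't, hz'Z⟩ := S.exists_mem_top T hq hqd
  have hzne := hnc ht htp hzt hzZ
  obtain ⟨hm, hD⟩ := S.cl_mul (e := x) rfl T.notMem hz (T.pel.coprime hp ht htp.symm hzt) hzne
  refine ⟨p, hp, fun ℓ hℓ hℓp => ?_⟩
  haveI := Fact.mk hℓ
  refine factorization_eq_of_pp (S.cl_top T) hm ?_
  rw [hD]
  exact (S.pp_eq_of_abelian hp hgen ⟨t, q, ht, hq, hqt.symm, htp, hqp, ⟨z, hz, hzt, hzne⟩,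
    ⟨z', hz', hz't, hnc hq hqp hz't hz'Z⟩⟩ hℓ hℓp hz (IsPEl.not_dvd hp ht htp hzt) hzne).symm

end Cfsg.Agent.ClassSize.ThreeSizes
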