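import Cfsg.Agent.Lib.ClassSize.ThreeSizes.NoTop
import Cfsg.Agent.Lib.ClassSize.ThreeSizes.Top
import Cfsg.Agent.Lib.ClassSize.OneSize
import Cfsg.Agent.S4035

/-!
# Three class sizes: the theorem

If `n` and `m` agree outside the prime `s` then every relevant element of order prime to `s` has a
centraliser with central Sylow subgroups at the primes other than `s`, and the main lemma applies.
-/

set_option autoImplicit false
set_option linter.unusedSectionVars false
set_option linter.style.haveILetI false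

namespace Cfsg.Agent.ClassSize.ThreeSizes

open Subgroup Cfsg.Agent.ClassSize.CoprimeTop Cfsg.Agent.ClassSize.TwoSteps
open scoped Pointwise

universe u₁

variable {G : Type u₁} [Group G] [Finite G] {n m s : ℕ}

/-- A subgroup centralising every `r'`-element of `C` with the full `r`-part. -/
theorem exists_direct_part {r : ℕ} [hr : Fact r.Prime] (C : Subgroup G)
    (h : ∀ y ∈ C, ¬ r ∣ orderOf y → pp r (C ⊓ cent y) = pp r C) :
    ∃ W : Subgroup G, W ≤ C ∧ IsPGroup r W ∧ Nat.card W = pp r C ∧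
      (∀ g ∈ C, IsPEl r g → g ∈ W) ∧
      ∀ w ∈ W, ∀ y ∈ C, ¬ r ∣ orderOf y → w * y = y * w := by
  obtain ⟨P⟩ := (inferInstance : Nonempty (Sylow r C))
  have hc : ∀ y : C, (orderOf y).Coprime r → ¬ r ∣ (ConjClasses.mk y).carrier.ncard := by
    intro y hy
    rw [PrimeParts.ncard_carrier,
      show centralizer ({y} : Set C) = (cent (y : G)).subgroupOf C by
        ext z; rw [mem_subgroupOf, mem_centralizer_singleton_iff, mem_cent]
        exact Subtype.ext_iff.trans eq_comm]
    refine factorization_index_eq_zero ?_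
    have hy' : ¬ r ∣ orderOf (y : G) := by
      rw [Subgroup.orderOf_coe]; exact hr.out.coprime_iff_not_dvd.1 hy.symm
    rw [← inf_subgroupOf_left, pp, full,
      Nat.card_congr (subgroupOfEquivOfLe (inf_le_left : C ⊓ cent (y : G) ≤ C)).toEquiv]
    exact h y y.2 hy'
  obtain ⟨hPn, H, hHn, hrH, hPH, hsup⟩ := S4035.result hc P
  refine ⟨(P : Subgroup C).map C.subtype, map_subtype_le _, P.isPGroup'.map _, by
    rw [card_map_of_injective C.subtype_injective, P.card_eq_multiplicity]; rfl, ?_, ?_⟩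
  · intro g hg hgr
    have hgr' : IsPEl r (⟨g, hg⟩ : C) := hgr.imp fun _ h => Subtype.ext h
    obtain ⟨Q, hQ⟩ := hgr'.isPGroup_zpowers.exists_le_sylow
    haveI := Sylow.unique_of_normal P hPn
    refine ⟨⟨g, hg⟩, ?_, rfl⟩
    rw [show P = Q from Subsingleton.elim _ _]
    exact hQ (mem_zpowers _)
  · rintro _ ⟨w, hw, rfl⟩ y hy hyr
    have hyH : (⟨y, hy⟩ : C) ∈ H := by
      have hd : orderOf ((⟨y, hy⟩ : C) : C ⧸ H) ∣ H.index := orderOf_dvd_natCard _
      have hcompl : H.IsComplement' (P : Subgroup C) :=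
        isComplement'_of_disjoint_and_mul_eq_univ
          (disjoint_iff.2 (by rw [inf_comm]; exact hPH))
          (by rw [← normal_mul H (P : Subgroup C), sup_comm, hsup]; rfl)
      rw [hcompl.symm.index_eq_card, P.card_eq_multiplicity] at hd
      have h2 : orderOf ((⟨y, hy⟩ : C) : C ⧸ H) ∣ orderOf y := by
        refine (orderOf_map_dvd (QuotientGroup.mk' H) (⟨y, hy⟩ : C)).trans ?_
        rw [← Subgroup.orderOf_coe]
      exact (QuotientGroup.eq_one_iff _).1 (orderOf_eq_one_iff.1
        (Nat.eq_one_of_dvd_coprimes (((hr.out.coprime_iff_not_dvd.2 hyr)).pow_left _) hd h2))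
    exact congrArg Subtype.val (Subgroup.commute_of_normal_of_disjoint (P : Subgroup C) H hPn hHn
      (disjoint_iff.2 hPH) w ⟨y, hy⟩ hw hyH).eq

theorem Three.pp_cent_eq (S : Three G n m) {r : ℕ} [hr : Fact r.Prime]
    (hnm : n.factorization r = m.factorization r) {a b : G} (ha : a ∉ center G) (hb : b ∉ center G) :
    pp r (cent a) = pp r (cent b) := by
  have h1 := pp_mul_cl (p := r) a
  have h2 := pp_mul_cl (p := r) b
  have h3 : (cl a).factorization r = (cl b).factorization r := by
    rcases S.noncentral ha with e | e <;> rcases S.noncentral hb with e' | e' <;>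
      simp [e, e', hnm]
  rw [h3, ← h2] at h1
  exact Nat.eq_of_mul_eq_mul_right (pow_pos hr.out.pos _) h1

theorem Three.notMem_of_mul (a b : G) (hab : a * b = b * a) (hco : (orderOf a).Coprime (orderOf b))
    (ha : a ∉ center G) : a * b ∉ center G := fun hZ => by
  have h1 : cent (a * b) = ⊤ := index_eq_one.1 (cl_eq_one.2 hZ)
  rw [cent_mul_coprime hab hco, inf_eq_top_iff] at h1
  exact ha (cl_eq_one.1 (index_eq_one.2 h1.1))

/-- `n` and `m` cannot agree outside one prime when there is no abelian complement. -/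
theorem Three.not_uniform (S : Three G n m) (hns : ¬ Group.IsSolvable G) (hs : s.Prime)
    (hU : ∀ r : ℕ, r.Prime → r ≠ s → n.factorization r = m.factorization r) : False := by
  have hgood : ∀ {r : ℕ} {a : G}, r.Prime → IsPEl r a → a ∉ center G → r ∣ (center G).index :=
    fun {r} {a} hr ha haZ => by
      haveI := Fact.mk hr
      exact dvd_index_center ha haZ
  -- (1) the direct part of `cent a` at a prime different from that of `a`
  have part0 : ∀ {t r : ℕ} {a : G}, r.Prime → r ≠ s → IsPEl r a → a ∉ center G → t = r →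
      ∃ W : Subgroup G, W ≤ cent a ∧ IsPGroup r W ∧ Nat.card W = pp r (cent a) ∧
        (∀ g ∈ cent a, IsPEl r g → g ∈ W) ∧
        ∀ w ∈ W, ∀ y ∈ cent a, ¬ r ∣ orderOf y → w * y = y * w := by
    intro t r a hr hrs ha haZ _
    haveI := Fact.mk hr
    refine exists_direct_part _ fun y hy hyr => ?_
    obtain ⟨k, hk⟩ := ha.orderOf_dvd
    have hco : (orderOf a).Coprime (orderOf y) :=
      ((hr.coprime_iff_not_dvd.2 hyr).pow_left k).coprime_dvd_left hk
    rw [← cent_mul_coprime (mem_cent.1 hy) hco]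
    exact S.pp_cent_eq (hU r hr hrs) (Three.notMem_of_mul a y (mem_cent.1 hy) hco haZ) haZ
  have part : ∀ {t r : ℕ} {a : G}, t.Prime → t ≠ s → IsPEl t a → a ∉ center G → r.Prime → r ≠ s →
      ∃ W : Subgroup G, W ≤ cent a ∧ IsPGroup r W ∧ Nat.card W = pp r (cent a) ∧
        (∀ g ∈ cent a, IsPEl r g → g ∈ W) ∧
        ∀ w ∈ W, ∀ y ∈ cent a, ¬ r ∣ orderOf y → w * y = y * w := by
    intro t r a ht hts ha haZ hr hrs
    rcases eq_or_ne t r with h | h
    · subst h; exact part0 (t := t) hr hrs ha haZ rfl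
    obtain ⟨T, hTC, hTp, -, hT, hTc⟩ := part0 (t := t) ht hts ha haZ rfl
    haveI := Fact.mk hr
    refine exists_direct_part _ fun y hy hyr => ?_
    obtain ⟨b, c, hb, hc, hbc, hcm, -, hbt, hct⟩ := exists_split t y
    have hbC : b ∈ cent a := zpowers_le.2 hy hb
    have hcC : c ∈ cent a := zpowers_le.2 hy hc
    have hcdvd : ¬ t ∣ orderOf c := ht.coprime_iff_not_dvd.1 hct.symm
    have hco : (orderOf a).Coprime (orderOf c) := by
      obtain ⟨k, hk⟩ := ha.orderOf_dvd
      exact ((ht.coprime_iff_not_dvd.2 hcdvd).pow_left k).coprime_dvd_left hk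
    have hcm' := cent_mul_coprime (mem_cent.1 hcC) hco
    obtain ⟨W, hW, hWr, hWc⟩ := exists_pp_subgroup r (cent (a * c))
    refine le_antisymm (pp_mono inf_le_left) ?_
    rw [← S.pp_cent_eq (hU r hr hrs) (Three.notMem_of_mul a c (mem_cent.1 hcC) hco haZ) haZ, ← hWc]
    refine card_le_pp (fun w hw => ?_) hWr
    have hw' := hW hw
    rw [hcm'] at hw'
    refine ⟨hw'.1, mem_cent.2 ?_⟩
    have hbT : b ∈ T := by
      refine hT b hbC ?_
      have hb0 : orderOf b ≠ 0 := (orderOf_pos b).ne'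
      exact ⟨_, orderOf_dvd_iff_pow_eq_one.1
        (Nat.eq_prime_pow_of_unique_prime_dvd hb0 fun {d} hd hdd =>
          (Nat.prime_dvd_prime_iff_eq hd ht).1 (hbt d hd hdd)).dvd⟩
    have hbw : b * w = w * b := hTc b hbT w hw'.1 fun hd => by
      obtain ⟨i, hi⟩ := (isPEl_of_mem hWr hw).orderOf_dvd
      exact h ((Nat.prime_dvd_prime_iff_eq ht hr).1 (ht.dvd_of_dvd_pow (hd.trans hi)))
    rw [hbc]
    exact ((show Commute b w from hbw).mul_left (mem_cent.1 hw'.2)).eq
  -- (2) noncentral commuting primary elements at good primes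
  have hlt : ∀ {r : ℕ} {g : G}, r.Prime → r ≠ s → r ∣ (center G).index → g ∉ center G →
      pp r (center G) < pp r (cent g) := by
    intro r g hr hrs hd hg
    haveI := Fact.mk hr
    obtain ⟨v, -, hvZ, hv⟩ := exists_cent_gt hd
    rwa [S.pp_cent_eq (hU r hr hrs) hg hvZ]
  have step : ∀ {t r : ℕ} {a : G}, t.Prime → t ≠ s → IsPEl t a → a ∉ center G → r.Prime → r ≠ s →
      t ≠ r → ∀ w ∈ cent a, IsPEl r w → w ∉ center G →
        ∀ g ∈ cent a, IsPEl r g → g * w = w * g := by
    intro t r a ht hts ha haZ hr hrs htr w hw hwr hwZ g hg hgr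
    haveI := Fact.mk hr
    obtain ⟨Wa, hWa, -, hWac, hWam, -⟩ := part ht hts ha haZ hr hrs
    obtain ⟨Ww, hWw, hWwp, hWwc, hWwm, -⟩ := part hr hrs hwr hwZ hr hrs
    obtain ⟨W, hW, hWr, hWc⟩ := exists_pp_subgroup r (cent (a * w))
    have hco : (orderOf a).Coprime (orderOf w) := ha.coprime ht hr htr hwr
    have hm := cent_mul_coprime (mem_cent.1 hw) hco
    have hnz := Three.notMem_of_mul a w (mem_cent.1 hw) hco haZ
    have hWa' : W = Wa := eq_of_le_of_card_ge
      (fun v hv => hWam v (hm ▸ hW hv : v ∈ cent a ⊓ cent w).1 (isPEl_of_mem hWr hv))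
      (by rw [hWc, hWac, S.pp_cent_eq (hU r hr hrs) hnz haZ])
    have h2 : g ∈ cent (a * w) := hW (hWa'.symm ▸ hWam g hg hgr)
    rw [hm] at h2
    exact (mem_cent.1 h2.2).symm
  have comm : ∀ {t r : ℕ} {a b : G}, t.Prime → t ≠ s → IsPEl t a → a ∉ center G → r.Prime → r ≠ s →
      b ∈ cent a → IsPEl r b → cent a ≤ cent b := by
    intro t r a b ht hts ha haZ hr hrs hb hbr
    haveI := Fact.mk hr
    obtain ⟨W, -, -, -, hWm, hWc⟩ := part ht hts ha haZ hr hrs
    intro v hv
    refine mem_of_forall_primary fun ℓ hℓ y hy hyl => ?_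
    have hyC : y ∈ cent a := zpowers_le.2 hv hy
    by_cases hbZ : b ∈ center G
    · exact mem_cent.2 (mem_center_iff.1 hbZ y).symm
    rcases eq_or_ne ℓ r with h | h
    · subst h
      rcases eq_or_ne t ℓ with htl | htl
      · subst htl
        obtain ⟨q, hq, hqs, hqt, hqd⟩ := exists_third hns s t
        haveI := Fact.mk hq
        obtain ⟨c, hc, hcq, hcZ⟩ := exists_pEl_of_lt (hlt hq hqs hqd haZ)
        obtain ⟨Wc, hWcle, -, hWcc, hWcm, -⟩ := part hq hqs hcq hcZ ht hts
        obtain ⟨Wa, -, -, hWac, hWam, hWam'⟩ := part ht hts ha haZ ht hts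
        obtain ⟨U, hU', hUr, hUc⟩ := exists_pp_subgroup t (cent (a * c))
        have hco : (orderOf a).Coprime (orderOf c) := ha.coprime ht hq hqt.symm hcq
        have hm := cent_mul_coprime (mem_cent.1 hc) hco
        have hnz := Three.notMem_of_mul a c (mem_cent.1 hc) hco haZ
        have hUa : U = Wa := eq_of_le_of_card_ge
          (fun u hu => hWam u (hm ▸ hU' hu : u ∈ cent a ⊓ cent c).1 (isPEl_of_mem hUr hu))
          (by rw [hUc, hWac, S.pp_cent_eq (hU t ht hts) hnz haZ])
        have hin : ∀ g ∈ cent a, IsPEl t g → g ∈ cent c := fun g hg hgt => by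
          have h2 : g ∈ cent (a * c) := hU' (hUa.symm ▸ hWam g hg hgt)
          rw [hm] at h2
          exact h2.2
        exact mem_cent.2 (step hq hqs hcq hcZ ht hts hqt b (hin b hb hbr) hbr hbZ y (hin y hyC hyl)
          hyl).symm
      · exact mem_cent.2 (step ht hts ha haZ hr hrs htl b hb hbr hbZ y hyC hyl).symm
    · exact mem_cent.2 (hWc b (hWm b hb hbr) y hyC fun hd => by
        obtain ⟨i, hi⟩ := hyl.orderOf_dvd
        exact h ((Nat.prime_dvd_prime_iff_eq hr hℓ).1 (hr.dvd_of_dvd_pow (hd.trans hi))).symm)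
  have cent_eq : ∀ {t : ℕ} {a : G} {g : G}, t.Prime → t ≠ s → IsPEl t a → a ∉ center G →
      g ∈ cent a → Elt s g → cent g = cent a := by
    intro t a g ht hts ha haZ hg hgs
    obtain ⟨r, b, hr, hrd, hbr, hbm, hbZ, hgb⟩ := exists_primary hgs.2
    have hrs : r ≠ s := fun h => hgs.1 (h ▸ hrd)
    have hbC : b ∈ cent a := zpowers_le.2 hg hbm
    have hab : cent a = cent b := le_antisymm (comm ht hts ha haZ hr hrs hbC hbr)
      (comm hr hrs hbr hbZ ht hts (cent_comm.1 hbC) ha)
    refine le_antisymm (hgb.trans hab.ge) fun v hv => ?_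
    refine cent_comm.1 (mem_of_forall_primary fun ℓ hℓ y hy hyl => cent_comm.1 ?_)
    have hyC : y ∈ cent a := zpowers_le.2 hg hy
    rcases eq_or_ne ℓ s with h | h
    · subst h
      have hy1 : y = 1 := by
        obtain ⟨i, hi⟩ := hyl.orderOf_dvd
        refine orderOf_eq_one_iff.1 (Nat.eq_one_of_dvd_coprimes ?_ hi (orderOf_dvd_of_mem_zpowers hy))
        exact (hs.coprime_iff_not_dvd.2 hgs.1).pow_left i
      rw [hy1]; exact mem_cent.2 (by simp)
    · exact comm ht hts ha haZ hℓ h hyC hyl hv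
  obtain ⟨t, ht, hts, -, htd⟩ := exists_third hns s s
  obtain ⟨q, hq, hqs, hqt, hqd⟩ := exists_third hns s t
  have E : Reg G s :=
    { hp := hs
      eq := fun y z hy hz hzy => by
        obtain ⟨r, a, hr, hrd, har, ham, haZ, hya⟩ := exists_primary hy.2
        have hrs : r ≠ s := fun h => hy.1 (h ▸ hrd)
        rw [cent_eq hr hrs har haZ (hya hzy) hz, cent_eq hr hrs har haZ (hya (self_mem_cent y)) hy]
      card := fun y z hy hz r hr hrs => by
        haveI := Fact.mk hr
        exact S.pp_cent_eq (hU r hr hrs) hy.2 hz.2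
      two := ⟨t, q, ht, hq, hqt.symm, hts, hqs, htd, hqd⟩ }
  haveI := Fact.mk ht
  obtain ⟨v, hvt, hvZ⟩ := exists_pEl_of_dvd htd
  have h0 : (cl v).factorization t = 0 :=
    Nat.factorization_eq_zero_of_not_dvd (E.not_dvd_index (elt_of_pEl hs ht hts hvt hvZ) ht hts)
  have hall : ∀ g : G, ∀ R : Sylow t G, ∃ k : G, k⁻¹ * g * k ∈ centralizer ((R : Subgroup G) : Set G) := by
    intro g R
    obtain ⟨W, hW, hWp, hWc⟩ := exists_pp_subgroup t (cent g)
    have hfull : pp t (cent g) = full G t := by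
      by_cases hg : g ∈ center G
      · rw [show cent g = ⊤ from index_eq_one.1 (cl_eq_one.2 hg), pp, full,
          Nat.card_congr Subgroup.topEquiv.toEquiv]
      · rw [S.pp_cent_eq (hU t ht hts) hg hvZ, full, ← pp_mul_cl v, h0, pow_zero, mul_one]
    obtain ⟨R', hR'⟩ := hWp.exists_le_sylow
    have hWR : W = R' := eq_of_le_of_card_ge hR' (by rw [hWc, hfull, full, sylow_card])
    obtain ⟨k, hk⟩ := MulAction.exists_smul_eq G R R'
    refine ⟨k, mem_centralizer_iff.2 fun b hb => ?_⟩
    have h1 : k * b * k⁻¹ ∈ cent g := hW (by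
      rw [hWR, ← hk, Sylow.coe_subgroup_smul, Coprime.mem_conj_smul_iff]
      rw [show k⁻¹ * (k * b * k⁻¹) * k = b by group]; exact hb)
    have h2 := mem_cent.1 h1
    calc b * (k⁻¹ * g * k) = k⁻¹ * ((k * b * k⁻¹) * g) * k := by group
      _ = k⁻¹ * (g * (k * b * k⁻¹)) * k := by rw [h2]
      _ = k⁻¹ * g * k * b := by group
  obtain ⟨R⟩ := (inferInstance : Nonempty (Sylow t G))
  have htop := OneSize.eq_top_of_forall_conj fun g => hall g R
  refine R.not_dvd_index (htd.trans (index_dvd_of_le fun b hb => mem_center_iff.2 fun g => ?_))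
  exact (mem_centralizer_iff.1 (htop.symm ▸ mem_top g) b hb).symm

/-- **Itô.** Three class sizes force solvability. -/
theorem Three.isSolvable (S : Three G n m) (hn : ∃ x : G, cl x = n) (hm : ∃ x : G, cl x = m) :
    Group.IsSolvable G := by
  by_contra hns
  by_cases hF : NoTop G
  · exact S.solvable_of_noTop hn hm hns hF
  · obtain ⟨a, b, -, hb, hle, hne⟩ : ∃ a b : G, a ∉ center G ∧ b ∉ center G ∧ cent a ≤ cent b ∧
        cent a ≠ cent b := by simpa [NoTop] using hF
    obtain ⟨p, x, T⟩ := S.exists_top hb hle hne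
    obtain ⟨s, hs, hU⟩ := S.exists_uniform hns T
    exact S.not_uniform hns hs hU

end Cfsg.Agent.ClassSize.ThreeSizes
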