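import Cfsg.Agent.Lib.ClassSize.ThreeSizes.Weyl
import Cfsg.Agent.Lib.CharInt.Burnside

/-!
# Three class sizes: basics

`Three G n m`: the class sizes are among `1 < n < m`.
-/

set_option autoImplicit false
set_option linter.unusedSectionVars false
set_option linter.style.haveILetI false

namespace Cfsg.Agent.ClassSize.ThreeSizes

open Subgroup Cfsg.Agent.ClassSize.CoprimeTop Cfsg.Agent.ClassSize.TwoSteps

variable {G : Type*} [Group G] [Finite G] {n m : ℕ}

/-- Every class size is one of `1 < n < m`. -/
structure Three (G : Type*) [Group G] (n m : ℕ) : Prop where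
  one_lt : 1 < n
  lt : n < m
  cases : ∀ x : G, cl x = 1 ∨ cl x = n ∨ cl x = m

theorem Three.noncentral (S : Three G n m) {x : G} (hx : x ∉ center G) : cl x = n ∨ cl x = m :=
  (S.cases x).resolve_left fun h => hx (cl_eq_one.1 h)

theorem Three.notMem (S : Three G n m) {x : G} (hx : cl x = n ∨ cl x = m) : x ∉ center G := fun h => by
  have h1 := cl_eq_one.2 h
  have := S.one_lt
  have := S.lt
  omega

theorem Three.cl_of_lt (S : Three G n m) {a b : G} (hb : b ∉ center G) (h : cent a ≤ cent b)
    (hne : cent a ≠ cent b) : cl a = m ∧ cl b = n := by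
  have ha : a ∉ center G := fun ha => hne (by
    have : cent a = ⊤ := index_eq_one.1 (cl_eq_one.2 ha)
    exact le_antisymm h (this ▸ le_top))
  have := S.lt
  have h1 : cl b < cl a := by
    by_contra hlt
    exact hne (eq_of_le_of_cl h (not_lt.1 hlt))
  rcases S.noncentral ha with e1 | e1 <;> rcases S.noncentral hb with e2 | e2 <;>
    rw [e1, e2] at h1 <;> first | omega | exact ⟨e1, e2⟩

theorem pp_eq_of_cl_eq {a b : G} (r : ℕ) (h : cl a = cl b) : pp r (cent a) = pp r (cent b) := by
  have h1 := card_mul_index (cent a)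
  have h2 := card_mul_index (cent b)
  have h3 : Nat.card (cent a) = Nat.card (cent b) := by
    simp only [cl] at h
    rw [h] at h1
    exact Nat.eq_of_mul_eq_mul_right (Nat.pos_of_ne_zero index_ne_zero_of_finite) (h1.trans h2.symm)
  rw [pp, pp, h3]

/-- A noncentral element has a noncentral primary part with at least its centraliser. -/
theorem exists_primary {g : G} (hg : g ∉ center G) :
    ∃ (r : ℕ) (y : G), r.Prime ∧ r ∣ orderOf g ∧ IsPEl r y ∧ y ∈ zpowers g ∧ y ∉ center G ∧
      cent g ≤ cent y := by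
  obtain ⟨q, b, y, hq, hqd, hy, hyo, hyS⟩ := PrimeParts.exists_part_not_mem hg
  exact ⟨q, y, hq, hqd, ⟨b, hyo ▸ pow_orderOf_eq_one y⟩, hy, hyS, cent_le_of_mem_zpowers hy⟩

/-- In a nonsolvable group three primes divide the order of `G` modulo the centre. -/
theorem exists_third (hns : ¬ Group.IsSolvable G) (p q : ℕ) :
    ∃ r : ℕ, r.Prime ∧ r ≠ p ∧ r ≠ q ∧ r ∣ (center G).index := by
  by_contra hne
  push Not at hne
  apply hns
  haveI : Group.IsSolvable (G ⧸ center G) := by
    set c := Nat.card (G ⧸ center G) with hc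
    have hc' : c = (center G).index := rfl
    have hc0 : c ≠ 0 := Nat.card_pos.ne'
    have hall : ∀ {r : ℕ}, r.Prime → r ∣ c → r = p ∨ r = q := fun {r} hr hd => by
      by_contra h
      obtain ⟨h1, h2⟩ := not_or.1 h
      exact hne r hr h1 h2 (hc' ▸ hd)
    obtain ⟨t, q', i, j, ht, hq', hcard⟩ : ∃ t q' i j : ℕ, t.Prime ∧ q'.Prime ∧
        c = t ^ i * q' ^ j := by
      by_cases hp : p.Prime
      · obtain ⟨e, k, hk, hek⟩ := Nat.exists_eq_pow_mul_and_not_dvd hc0 p hp.ne_one
        have hk0 : k ≠ 0 := fun h => hk (h ▸ dvd_zero p)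
        have hk' : ∀ {r : ℕ}, r.Prime → r ∣ k → r = q := fun {r} hr hd =>
          (hall hr (hek ▸ hd.mul_left _)).resolve_left fun h => hk (h ▸ hd)
        by_cases hq : q.Prime
        · exact ⟨p, q, e, _, hp, hq, hek.trans (congrArg _ (Nat.eq_prime_pow_of_unique_prime_dvd hk0 hk'))⟩
        · have : k = 1 := by
            by_contra h
            obtain ⟨r, hr, hrd⟩ := Nat.exists_prime_and_dvd h
            exact hq (hk' hr hrd ▸ hr)
          exact ⟨p, p, e, 0, hp, hp, by rw [hek, this, pow_zero]⟩
      · by_cases hq : q.Prime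
        · exact ⟨q, q, _, 0, hq, hq, (Nat.eq_prime_pow_of_unique_prime_dvd hc0 fun {r} hr hd =>
            (hall hr hd).resolve_left fun h => hp (h ▸ hr)).trans (mul_one _).symm⟩
        · have : c = 1 := by
            by_contra h
            obtain ⟨r, hr, hrd⟩ := Nat.exists_prime_and_dvd h
            rcases hall hr hrd with h' | h'
            · exact hp (h' ▸ hr)
            · exact hq (h' ▸ hr)
          exact ⟨2, 2, 0, 0, Nat.prime_two, Nat.prime_two, by rw [this]; rfl⟩
    exact CharInt.isSolvable_of_card_eq ht hq' hcard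
  haveI : Group.IsSolvable (center G) :=
    Group.isSolvable_of_comm fun a b => Subtype.ext ((mem_center_iff.1 b.2 a.1))
  exact Group.isSolvable_of_ker_le_range (center G).subtype (QuotientGroup.mk' (center G))
    (by rw [QuotientGroup.ker_mk', range_subtype])

/-- Every prime dividing the index of the centre divides some centraliser properly above it. -/
theorem exists_cent_gt {r : ℕ} [Fact r.Prime] (h : r ∣ (center G).index) :
    ∃ v : G, IsPEl r v ∧ v ∉ center G ∧ pp r (center G) < pp r (cent v) := by
  obtain ⟨v, hv, hvZ⟩ := exists_pEl_of_dvd h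
  exact ⟨v, hv, hvZ, pp_center_lt_of_notMem (center_le_cent v) hv (self_mem_cent v) hvZ⟩

end Cfsg.Agent.ClassSize.ThreeSizes
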