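import Cfsg.Agent.Lib.ClassSize.ThreeSizes.Weyl
import Cfsg.Agent.Lib.PGroup.UniqueOrderP

/-!
# An exceptional prime

`Ctx`: a prime `u ≠ p` for which the `u`-part of `D = cent y` is not Sylow in `G`, with `v` in a
Sylow `u`-subgroup above it and outside `D`. The image of `v` in `Weyl y` generates its own
centraliser and `Weyl y` is a Z-group when `u` is odd.
-/

set_option autoImplicit false
set_option linter.unusedSectionVars false
set_option linter.style.haveILetI false

namespace Cfsg.Agent.ClassSize.ThreeSizes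

open Subgroup Cfsg.Agent.ClassSize.CoprimeTop Cfsg.Agent.ClassSize.TwoSteps
open scoped commutatorElement

variable {G : Type*} [Group G] [Finite G] {p r q u : ℕ}

/-- All centralisers are conjugate. -/
theorem Reg.exists_conj_cent (E : Reg G p) {y₁ y₂ : G} (h₁ : Elt p y₁) (h₂ : Elt p y₂) :
    ∃ g : G, cent (g * y₁ * g⁻¹) = cent y₂ := by
  obtain ⟨t, q, ht, hq, htq, htp, hqp, htd, hqd⟩ := E.two
  haveI := Fact.mk ht
  haveI := Fact.mk hq
  by_cases hbt : Big t y₁
  · exact E.toRich.exists_conj htp h₁ h₂ hbt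
      (by unfold Big at hbt ⊢; rwa [E.card y₂ y₁ h₂ h₁ t ht htp]) htd
  by_cases hbq : Big q y₁
  · exact E.toRich.exists_conj hqp h₁ h₂ hbq
      (by unfold Big at hbq ⊢; rwa [E.card y₂ y₁ h₂ h₁ q hq hqp]) hqd
  exfalso
  have small : ∀ {r : ℕ} [Fact r.Prime], r ≠ p → r ∣ (center G).index → ¬ Big r y₁ →
      pp r (cent y₁) ≠ full G r ∧ pp r (cent y₁) = r * pp r (center G) := by
    intro r hr hrp hrd hb
    obtain ⟨hb1, hb2⟩ := not_or.1 hb
    refine ⟨hb2, le_antisymm (not_lt.1 hb1) ?_⟩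
    have h1 := E.pp_center_lt hrp hrd h₁
    simp only [pp] at h1 ⊢
    rw [Nat.pow_lt_pow_iff_right hr.out.one_lt] at h1
    rw [← pow_succ']
    exact Nat.pow_le_pow_right hr.out.pos h1
  obtain ⟨ht1, ht2⟩ := small htp htd hbt
  obtain ⟨hq1, hq2⟩ := small hqp hqd hbq
  obtain ⟨g, hg, hgn, hgy⟩ := E.toCentEq.exists_normalizing htp h₁ ht1 (E.pp_center_lt htp htd h₁)
  have d1 := E.toCentEq.dvd_sub_one htq.symm hqp h₁ hg hgn hgy hq2
  obtain ⟨g', hg', hgn', hgy'⟩ := E.toCentEq.exists_normalizing hqp h₁ hq1 (E.pp_center_lt hqp hqd h₁)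
  have d2 := E.toCentEq.dvd_sub_one htq htp h₁ hg' hgn' hgy' ht2
  have := Nat.le_of_dvd (by have := hq.two_le; omega) d1
  have := Nat.le_of_dvd (by have := ht.two_le; omega) d2
  omega

/-- An exceptional prime with a Sylow element outside the centraliser. -/
structure Ctx (p : ℕ) (y v : G) (R : Sylow u G) : Prop where
  hy : Elt p y
  hne : u ≠ p
  le : prt u (cent y) ≤ R
  mem : v ∈ (R : Subgroup G)
  notMem : v ∉ cent y

theorem exists_ctx (E : Reg G p) [hu : Fact u.Prime] (hne : u ≠ p) {y : G} (hy : Elt p y)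
    (h : pp u (cent y) ≠ full G u) : ∃ (R : Sylow u G) (v : G), Ctx p y v R := by
  obtain ⟨R, hR⟩ := (E.isPGroup_prt hy hu.out hne).exists_le_sylow
  by_contra hne'
  push Not at hne'
  refine h (le_antisymm (pp_le_full _) ?_)
  rw [full, ← sylow_card R]
  exact card_le_pp (fun v hv => by
    by_contra hv'
    exact hne' R v ⟨hy, hne, hR, hv, hv'⟩) R.isPGroup'

namespace Ctx

variable [hu : Fact u.Prime] {y v : G} {R : Sylow u G}

theorem pEl (C : Ctx p y v R) : IsPEl u v := isPEl_of_mem R.isPGroup' C.mem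

theorem pp_ne (E : Reg G p) (C : Ctx p y v R) : pp u (cent y) ≠ full G u := by
  intro h
  have hfull : prt u (cent y) = R :=
    eq_of_le_of_card_ge C.le (by rw [E.card_prt C.hy C.hne, h, full, sylow_card])
  exact C.notMem (prt_le _ _ (hfull.symm ▸ C.mem))

theorem dvd (E : Reg G p) (C : Ctx p y v R) : u ∣ (center G).index :=
  dvd_index_of_pp_ne fun h => C.pp_ne E
    (le_antisymm (pp_le_full _) (h ▸ pp_mono (center_le_cent y)))

theorem le_normalizer_prt (E : Reg G p) (C : Ctx p y v R) :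
    (R : Subgroup G) ≤ normalizer (prt u (cent y) : Set G) := by
  set A := prt u (cent y) with hA
  set M := (R : Subgroup G) ⊓ normalizer (A : Set G) with hM
  obtain ⟨g, hgR, hgA, hgn⟩ := exists_mem_normalizer R.isPGroup' C.le
    (fun h => C.notMem (prt_le _ _ (h.symm ▸ C.mem)))
  have hAM : A ≤ M := le_inf C.le le_normalizer
  have hlt : Nat.card A < Nat.card M := by
    refine lt_of_le_of_ne (Subgroup.card_le_of_le hAM) fun h => hgA ?_
    have h2 : g ∈ M := ⟨hgR, hgn⟩
    rwa [← eq_of_le_of_card_ge hAM h.ge] at h2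
  obtain ⟨i, hi⟩ := IsPGroup.iff_card.1 (R.isPGroup'.to_inf_left (K := normalizer (A : Set G)))
  have h2 : full G u ≤ Nat.card M := by
    refine (E.full_le C.hne C.hy).trans ?_
    rw [← E.card_prt C.hy C.hne, ← hA]
    obtain ⟨j, hj⟩ := IsPGroup.iff_card.1 (E.isPGroup_prt C.hy hu.out C.hne)
    rw [← hM] at hi
    rw [← hA] at hj
    rw [hi, hj, Nat.pow_lt_pow_iff_right hu.out.one_lt] at hlt
    rw [hi, hj, ← pow_succ']
    exact Nat.pow_le_pow_right hu.out.pos hlt
  have h3 : M = R := eq_of_le_of_card_ge inf_le_left (by rw [sylow_card]; exact h2)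
  exact h3 ▸ inf_le_right

theorem le_normalizer (E : Reg G p) (C : Ctx p y v R) :
    (R : Subgroup G) ≤ normalizer (cent y : Set G) :=
  (C.le_normalizer_prt E).trans (E.normalizer_prt_le C.hne (C.dvd E) C.hy)

theorem v_mem (E : Reg G p) (C : Ctx p y v R) : v ∈ normalizer (cent y : Set G) :=
  C.le_normalizer E C.mem

theorem notMem_center (C : Ctx p y v R) : v ∉ center G := fun h => C.notMem (center_le_cent y h)

theorem elt (E : Reg G p) (C : Ctx p y v R) : Elt p v :=
  elt_of_pEl E.hp hu.out C.hne C.pEl C.notMem_center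

/-- The image of `v` in `Weyl y`. -/
def bar (E : Reg G p) (C : Ctx p y v R) : Weyl y :=
  ((⟨v, C.v_mem E⟩ : normalizer (cent y : Set G)) : Weyl y)

theorem bar_ne_one (E : Reg G p) (C : Ctx p y v R) : C.bar E ≠ 1 := fun h =>
  C.notMem (mk_eq_one.1 h)

theorem orderOf_bar (E : Reg G p) (C : Ctx p y v R) : orderOf (C.bar E) = u := by
  obtain ⟨k, hk⟩ := C.pEl
  have h1 : orderOf (C.bar E) ∣ u ^ k := orderOf_dvd_of_pow_eq_one (by
    rw [bar, ← QuotientGroup.mk_pow]
    exact mk_eq_one.2 (by simp [hk, one_mem]))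
  obtain ⟨j, -, hj⟩ := (Nat.dvd_prime_pow hu.out).1 h1
  have hj1 : j ≤ 1 := by
    by_contra hj2
    refine E.not_sq_dvd C.hne C.hy ((pow_dvd_pow u (by omega : 2 ≤ j)).trans ?_)
    exact hj ▸ orderOf_dvd_natCard _
  have hj0 : j ≠ 0 := fun h0 => C.bar_ne_one E (orderOf_eq_one_iff.1 (by rw [hj, h0, pow_zero]))
  rw [hj, show j = 1 by omega, pow_one]

theorem dvd_card (E : Reg G p) (C : Ctx p y v R) : u ∣ Nat.card (Weyl y) :=
  C.orderOf_bar E ▸ orderOf_dvd_natCard _

theorem pow_mem_center (E : Reg G p) (C : Ctx p y v R) : v ^ u ∈ center G := by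
  have h1 : v ^ u ∈ cent y := by
    have h : C.bar E ^ u = 1 := orderOf_dvd_iff_pow_eq_one.1 (dvd_of_eq (C.orderOf_bar E))
    rw [bar, ← QuotientGroup.mk_pow] at h
    exact mk_eq_one.1 h
  by_contra h
  have hvu : Elt p (v ^ u) :=
    elt_of_pEl E.hp hu.out C.hne (C.pEl.of_mem_zpowers (pow_mem (mem_zpowers v) u)) h
  exact C.notMem (E.eq y _ C.hy hvu h1 ▸ mem_cent.2 (Commute.self_pow v u).symm.eq)

/-- Centralising the image of `v` forces a `u`-element. -/
theorem mem_of_commute (E : Reg G p) (C : Ctx p y v R) {g : G} {s : ℕ} (hs : s.Prime) (hsu : s ≠ u)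
    (hg : g ∈ normalizer (cent y : Set G)) (hgv : ⁅g, v⁆ ∈ cent y) (hgs : g ^ s ∈ cent y) :
    g ∈ cent y := by
  obtain ⟨w', hw'A, hw'E, -, -, -⟩ := E.exists_noncentral_prt C.hne (C.dvd E) C.hy
  obtain ⟨w, hwA, hwZ, -, hwc⟩ := exists_base R.isPGroup' C.le (C.le_normalizer_prt E)
    fun h => hw'E.2 (h hw'A)
  obtain ⟨hwy, hwr⟩ := (E.mem_prt C.hy hu.out C.hne).1 hwA
  have hwE := elt_of_pEl E.hp hu.out C.hne hwr hwZ
  set ζ := ⁅v, w⁆ with hζ
  have hζZ : ζ ∈ center G := hwc v C.mem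
  have hvw : v * w * v⁻¹ = ζ * w := by simp [hζ, commutatorElement_def]
  obtain ⟨d, hd⟩ : ∃ d, d = g⁻¹ * ⁅g, v⁆⁻¹ * g := ⟨_, rfl⟩
  have hdy : d ∈ cent y := by
    have := conj_mem_cent (inv_mem hg) (inv_mem hgv)
    rw [inv_inv] at this
    rwa [hd]
  have hconj : g⁻¹ * v * g = d * v := by
    rw [hd, commutatorElement_def]; group
  set w₁ := g * w * g⁻¹ with hw₁
  have hw₁y : w₁ ∈ cent y := conj_mem_cent hg hwy
  have hw₁r : IsPEl u w₁ := IsPEl.conj' hwr g
  have hdw : d * (ζ * w) = ζ * w * d := by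
    rw [← mul_assoc, mem_center_iff.1 hζZ d, mul_assoc, mul_assoc,
      E.commute C.hy hwy (IsPEl.not_dvd E.hp hu.out C.hne hwr) hdy]
  have hvw₁ : v * w₁ * v⁻¹ = ζ * w₁ := by
    calc v * w₁ * v⁻¹ = g * ((g⁻¹ * v * g) * w * (g⁻¹ * v * g)⁻¹) * g⁻¹ := by rw [hw₁]; group
      _ = g * (d * (v * w * v⁻¹) * d⁻¹) * g⁻¹ := by rw [hconj]; group
      _ = g * (ζ * w) * g⁻¹ := by rw [hvw, hdw, mul_inv_cancel_right]
      _ = ζ * w₁ := by rw [hw₁, ← mul_assoc g, mem_center_iff.1 hζZ g]; group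
  set η := w₁ * w⁻¹ with hη
  have hηy : η ∈ cent y := mul_mem hw₁y (inv_mem hwy)
  have hηr : IsPEl u η :=
    IsPEl.mul hw₁r (IsPEl.inv hwr)
      (E.commute C.hy hw₁y (IsPEl.not_dvd E.hp hu.out C.hne hw₁r) (inv_mem hwy))
  have hvη : v * η * v⁻¹ = η := by
    calc v * η * v⁻¹ = (v * w₁ * v⁻¹) * (v * w * v⁻¹)⁻¹ := by rw [hη]; group
      _ = ζ * w₁ * (w⁻¹ * ζ⁻¹) := by rw [hvw₁, hvw, mul_inv_rev]
      _ = ζ * η * ζ⁻¹ := by rw [hη]; group
      _ = η := by rw [← mem_center_iff.1 hζZ η, mul_inv_cancel_right]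
  have hηZ : η ∈ center G := by
    by_contra h
    exact C.notMem (E.eq y η C.hy (elt_of_pEl E.hp hu.out C.hne hηr h) hηy ▸
      mem_cent.2 (mul_inv_eq_iff_eq_mul.1 hvη).symm)
  have h1 : g * w * g⁻¹ = η * w := by rw [hη, hw₁, inv_mul_cancel_right]
  have hcw := E.eq y w C.hy hwE hwy
  rw [← hcw] at hgs ⊢
  exact mem_cent_of_pow hηZ h1 hηr ((Nat.coprime_primes hu.out hs).2 hsu.symm) hgs

theorem false_of_commute (E : Reg G p) (C : Ctx p y v R) {e : Weyl y} {s : ℕ} (hs : s.Prime)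
    (hsu : s ≠ u) (he : orderOf e = s) (hc : Commute e (C.bar E)) : False := by
  obtain ⟨g, rfl⟩ := QuotientGroup.mk_surjective e
  have h1 : (g : G) ∈ cent y := by
    refine C.mem_of_commute E hs hsu g.2 ?_ ?_
    · exact (mk_eq_one (g := ⁅g, (⟨v, C.v_mem E⟩ : normalizer (cent y : Set G))⁆)).1 (by
        rw [← QuotientGroup.mk'_apply, map_commutatorElement]
        exact commutatorElement_eq_one_iff_mul_comm.2 hc.eq)
    · exact (mk_eq_one (g := g ^ s)).1 (by rw [QuotientGroup.mk_pow, ← he, pow_orderOf_eq_one])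
  rw [mk_eq_one.2 h1, orderOf_one] at he
  exact hs.ne_one he.symm

/-- An element of order two in `Weyl y` is central. -/
theorem _root_.Cfsg.Agent.ClassSize.ThreeSizes.Reg.commute_of_sq (E : Reg G p) {y : G}
    (hy : Elt p y) {e : Weyl y} (he : orderOf e = 2) (f : Weyl y) : Commute e f := by
  obtain ⟨g, rfl⟩ := QuotientGroup.mk_surjective e
  obtain ⟨h, rfl⟩ := QuotientGroup.mk_surjective f
  have hgy : (g : G) ∉ cent y := fun h' => by
    rw [mk_eq_one.2 h', orderOf_one] at he; omega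
  have hg2 : (g : G) ^ 2 ∈ cent y :=
    (mk_eq_one (g := g ^ 2)).1 (by rw [QuotientGroup.mk_pow, ← he, pow_orderOf_eq_one])
  have h1 := E.commutator_mem_of_sq hy g.2 hg2 hgy h.2
  have h2 := (mk_eq_one (g := ⁅g, h⁆)).2 h1
  rw [← QuotientGroup.mk'_apply, map_commutatorElement] at h2
  exact commutatorElement_eq_one_iff_mul_comm.1 h2

theorem not_two_dvd (E : Reg G p) (C : Ctx p y v R) (hu2 : u ≠ 2) :
    ¬ 2 ∣ Nat.card (Weyl y) := fun h => by
  haveI : Fact (Nat.Prime 2) := ⟨Nat.prime_two⟩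
  obtain ⟨e, he⟩ := exists_prime_orderOf_dvd_card' 2 h
  exact C.false_of_commute E Nat.prime_two hu2.symm he (E.commute_of_sq C.hy he _)

theorem card_eq_two (E : Reg G p) (C : Ctx p y v R) (hu2 : u = 2) : Nat.card (Weyl y) = 2 := by
  subst hu2
  have hall : ∀ s : ℕ, s.Prime → s ∣ Nat.card (Weyl y) → s = 2 := fun s hs hsd => by
    by_contra h
    haveI := Fact.mk hs
    obtain ⟨e, he⟩ := exists_prime_orderOf_dvd_card' s hsd
    exact C.false_of_commute E hs h he (E.commute_of_sq C.hy (C.orderOf_bar E) e).symm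
  have hc := Nat.eq_prime_pow_of_unique_prime_dvd Nat.card_pos.ne' fun {d} => hall d
  rcases h : (Nat.card (Weyl y)).primeFactorsList.length with _ | _ | i
  · have := C.dvd_card E
    rw [hc, h] at this
    norm_num at this
  · rw [hc, h]; norm_num
  · exfalso
    refine E.not_sq_dvd C.hne C.hy ?_
    rw [hc, h]
    exact pow_dvd_pow 2 (by omega)

theorem isZGroup (E : Reg G p) (C : Ctx p y v R) (hu2 : u ≠ 2) : IsZGroup (Weyl y) := by
  refine ⟨fun s hs P => ?_⟩
  haveI := Fact.mk hs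
  obtain ⟨i, hi⟩ := IsPGroup.iff_card.1 P.isPGroup'
  have hid : s ^ i ∣ Nat.card (Weyl y) := hi ▸ card_subgroup_dvd_card _
  by_cases hsp : s = p
  · subst hsp
    by_cases hp2 : s = 2
    · subst hp2
      rcases i with _ | i
      · haveI := (Nat.card_eq_one_iff_unique.1 (show Nat.card (P : Subgroup (Weyl y)) = 1 by rw [hi, pow_zero])).1
        infer_instance
      · exact absurd ((dvd_pow_self 2 i.succ_ne_zero).trans hid) (C.not_two_dvd E hu2)
    obtain ⟨q, hq, -, hqp, hqd⟩ := exists_good E s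
    haveI := Fact.mk hq
    obtain ⟨V, _, _, _, φ, hφ⟩ := E.exists_fpf hqp hqd C.hy (P : Subgroup (Weyl y))
      (by rw [hi]; exact ((Nat.coprime_primes hq hs).2 hqp).pow_right i)
    refine (PGroup.cyclic_or_quaternion_of_unique P.isPGroup' fun H K hH hK => ?_).resolve_right
      fun h => hp2 h.1
    haveI : Nontrivial (P : Subgroup (Weyl y)) := by
      rw [← Finite.one_lt_card_iff_nontrivial]
      exact lt_of_lt_of_le hs.one_lt (le_of_eq_of_le hH.symm (card_le_card_group H))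
    obtain ⟨z, hz⟩ := exists_prime_orderOf_dvd_card' s
      ((IsPGroup.card_eq_or_dvd (P.isPGroup'.to_subgroup
        (center (P : Subgroup (Weyl y))))).resolve_left fun h => by
        haveI := IsPGroup.center_nontrivial P.isPGroup'
        exact absurd h (Finite.one_lt_card).ne')
    have hz' : ((z : center (P : Subgroup (Weyl y))) : (P : Subgroup (Weyl y))) ^ s = 1 := by
      rw [← SubmonoidClass.coe_pow, orderOf_dvd_iff_pow_eq_one.1 (dvd_of_eq hz), OneMemClass.coe_one]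
    have hz1 : ((z : center (P : Subgroup (Weyl y))) : (P : Subgroup (Weyl y))) ≠ 1 := fun h => by
      rw [← Subgroup.orderOf_coe, h, orderOf_one] at hz
      exact hs.ne_one hz.symm
    have key : ∀ L : Subgroup (P : Subgroup (Weyl y)), Nat.card L = s →
        L = zpowers ((z : center (P : Subgroup (Weyl y))) : (P : Subgroup (Weyl y))) := by
      intro L hL
      refine eq_of_le_of_card_ge (fun b hb => ?_) ?_
      · have hb' : b ^ s = 1 := by
          have h0 := congrArg Subtype.val (pow_card_eq_one' (x := (⟨b, hb⟩ : L)))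
          rwa [hL] at h0
        exact Frobenius.Fpf.mem_zpowers_of_commute hφ hz' hz1 hb'
          ((mem_center_iff.1 z.2 b).symm : Commute _ _)
      · rw [hL, Nat.card_zpowers, orderOf_eq_prime hz' hz1]
    rw [key H hH, key K hK]
  · have hi1 : i ≤ 1 := by
      by_contra h
      exact E.not_sq_dvd hsp C.hy ((pow_dvd_pow s (by omega : 2 ≤ i)).trans hid)
    rcases i with _ | i
    · haveI := (Nat.card_eq_one_iff_unique.1 (show Nat.card (P : Subgroup (Weyl y)) = 1 by rw [hi, pow_zero])).1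
      infer_instance
    · exact isCyclic_of_prime_card (p := s) (by rw [hi, show i = 0 by omega]; norm_num)

end Ctx

end Cfsg.Agent.ClassSize.ThreeSizes
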