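import Cfsg.Agent.Lib.ClassSize.ThreeSizes.Ctx
import Cfsg.Agent.Lib.CharInt.Kazarin

/-!
# The prime two is not exceptional

If `2` is exceptional, some element of `D` has class of `p`-power size modulo the centre, so lies in
a solvable normal subgroup by Kazarin's theorem; a Sylow `q`-subgroup inside `D` then gives a
contradiction.
-/

set_option autoImplicit false
set_option linter.unusedSectionVars false
set_option linter.style.haveILetI false

namespace Cfsg.Agent.ClassSize.ThreeSizes

open Subgroup Cfsg.Agent.ClassSize.CoprimeTop Cfsg.Agent.ClassSize.TwoSteps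
open scoped commutatorElement

variable {G : Type*} [Group G] [Finite G] {p : ℕ}

theorem factorization_index_eq_zero {s : ℕ} [hs : Fact s.Prime] {H : Subgroup G}
    (h : pp s H = full G s) : ¬ s ∣ H.index := by
  intro hd
  have h1 := factorization_index (p := s) H
  have h2 := hs.out.factorization_pos_of_dvd index_ne_zero_of_finite hd
  have h3 := Nat.pow_right_injective hs.out.two_le h
  omega

/-- A solvable normal subgroup with central kernel pulls back to a solvable subgroup. -/
theorem isSolvable_comap_center (M : Subgroup (G ⧸ center G)) [Group.IsSolvable M] :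
    Group.IsSolvable (M.comap (QuotientGroup.mk' (center G))) := by
  let f := (QuotientGroup.mk' (center G)).subgroupComap M
  haveI : Group.IsSolvable f.ker := Group.isSolvable_of_comm fun a b => by
    refine Subtype.ext (Subtype.ext ?_)
    have ha : ((a : M.comap (QuotientGroup.mk' (center G))) : G) ∈ center G :=
      (QuotientGroup.eq_one_iff _).1 (congrArg Subtype.val a.2)
    exact (mem_center_iff.1 ha _).symm
  exact Group.isSolvable_of_ker_le_range f.ker.subtype f (range_subtype f.ker).ge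

theorem Ctx.two_false {y v : G} {R : Sylow 2 G} (E : Reg G p) (C : Ctx p y v R) : False := by
  haveI : Fact (Nat.Prime 2) := ⟨Nat.prime_two⟩
  have hW := C.card_eq_two E rfl
  have hN : ∀ g ∈ normalizer (cent y : Set G), g ∈ cent y ∨ v⁻¹ * g ∈ cent y := by
    intro g hg
    obtain ⟨a, -, ha⟩ := (Nat.card_eq_two_iff' (1 : Weyl y)).1 hW
    by_cases h : ((⟨g, hg⟩ : normalizer (cent y : Set G)) : Weyl y) = 1
    · exact Or.inl (mk_eq_one.1 h)
    · refine Or.inr ?_
      have e : C.bar E = ((⟨g, hg⟩ : normalizer (cent y : Set G)) : Weyl y) :=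
        (ha _ (C.bar_ne_one E)).trans (ha _ h).symm
      exact (QuotientGroup.eq.1 e :)
  have hv2 := C.pow_mem_center E
  have hvy : v ^ 2 ∈ cent y := center_le_cent y hv2
  obtain ⟨g, hg⟩ := E.exists_conj_cent C.hy (C.elt E)
  obtain ⟨w, hw⟩ : ∃ w, w = g⁻¹ * v * g := ⟨_, rfl⟩
  have hwy : w ∈ cent y := by
    rw [hw, ← mem_cent_conj, hg]; exact self_mem_cent v
  have hwr : IsPEl 2 w := by
    have := IsPEl.conj' C.pEl g⁻¹
    rw [inv_inv] at this
    rwa [hw]
  have hw2 : w ^ 2 ∈ center G := by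
    have := Normal.conj_mem (inferInstance : (center G).Normal) _ hv2 g⁻¹
    rw [inv_inv] at this
    convert this using 1
    rw [hw, pow_two, pow_two]; group
  have hwA : w ∈ prt 2 (cent y) := mem_prt_of hwy hwr
  have hvw : ⁅v, w⁆ ∈ center G := by
    have h1 := E.inv_mod_center Nat.prime_two C.hne C.hy (C.v_mem E) hvy C.notMem hwA
    have h2 : ⁅v, w⁆ = v * w * v⁻¹ * w * (w ^ 2)⁻¹ := by
      rw [commutatorElement_def, pow_two]; group
    rw [h2]; exact mul_mem h1 (inv_mem hw2)
  set π := QuotientGroup.mk' (center G) with hπ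
  set N := normalizer (cent y : Set G) with hNdef
  have hle : N.map π ≤ centralizer ({π w} : Set (G ⧸ center G)) := by
    rintro _ ⟨x, hx, rfl⟩
    rw [mem_centralizer_singleton_iff]
    have hd : ∀ d ∈ cent y, π d * π w = π w * π d := fun d hd => by
      rw [← map_mul, ← map_mul, E.commute C.hy hwy (IsPEl.not_dvd E.hp Nat.prime_two C.hne hwr) hd]
    rcases hN x hx with h | h
    · exact hd x h
    · have hv' : π v * π w = π w * π v := commutatorElement_eq_one_iff_mul_comm.1 (by
        rw [← map_commutatorElement]; exact (QuotientGroup.eq_one_iff _).2 hvw)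
      rw [show x = v * (v⁻¹ * x) by group, map_mul, mul_assoc, hd _ h, ← mul_assoc, hv', mul_assoc]
  have hidx : ∀ {s : ℕ}, s.Prime → s ∣ N.index → s = p := by
    intro s hs hd
    by_contra hsp
    haveI := Fact.mk hs
    refine factorization_index_eq_zero (le_antisymm (pp_le_full N) ?_) hd
    by_cases h2 : s = 2
    · subst h2
      rw [full, ← sylow_card R]
      exact card_le_pp (C.le_normalizer E) R.isPGroup'
    · refine le_trans (le_of_eq ?_) (pp_mono (H := cent y) Subgroup.le_normalizer)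
      by_contra hne
      obtain ⟨R', v', C'⟩ := exists_ctx E hsp C.hy fun h => hne h.symm
      exact h2 ((Nat.prime_dvd_prime_iff_eq hs Nat.prime_two).1 (hW ▸ C'.dvd_card E))
  obtain ⟨a, -, ha⟩ := (Nat.dvd_prime_pow E.hp).1
    (((index_dvd_of_le hle).trans (N.index_map_dvd (QuotientGroup.mk'_surjective _))).trans
      (dvd_of_eq (Nat.eq_prime_pow_of_unique_prime_dvd index_ne_zero_of_finite @hidx)))
  haveI hM := CharInt.isSolvable_normalClosure_of_class_prime_pow (Nat.card (G ⧸ center G))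
    le_rfl (π w) E.hp ⟨a, ha⟩
  set Mb := normalClosure ({π w} : Set (G ⧸ center G)) with hMb
  set M := Mb.comap π with hMdef
  haveI hMs : Group.IsSolvable M := isSolvable_comap_center Mb
  haveI hMn : M.Normal := inferInstance
  have hZM : center G ≤ M := fun z hz =>
    mem_comap.2 (by rw [show π z = 1 from (QuotientGroup.eq_one_iff z).2 hz]; exact one_mem _)
  have hwM : w ∈ M := mem_comap.2 (subset_normalClosure rfl)
  have hvM : v ∈ M := by
    have := hMn.conj_mem w hwM g
    convert this using 1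
    rw [hw]; group
  obtain ⟨q, hq, hq2, hqp, hqd⟩ := exists_good E 2
  haveI := Fact.mk hq
  set Q := prt q (cent y) with hQ
  have hQc : Nat.card Q = full G q := by
    rw [E.card_prt C.hy hqp]
    by_contra hne
    obtain ⟨R', v', C'⟩ := exists_ctx E hqp C.hy hne
    exact hq2 ((Nat.prime_dvd_prime_iff_eq hq Nat.prime_two).1 (hW ▸ C'.dvd_card E))
  have hodd : ∀ (H : Subgroup G) (m : G), IsPEl q m → m ^ 2 ∈ H → m ∈ H := by
    intro H m hm h2
    obtain ⟨k, hk⟩ := hm.orderOf_dvd
    have hco : Nat.Coprime (q ^ k) 2 := ((Nat.coprime_primes hq Nat.prime_two).2 hq2).pow_left k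
    obtain ⟨j, hj⟩ := exists_pow_eq_self_of_coprime (hco.symm.coprime_dvd_right hk)
    exact hj ▸ pow_mem h2 j
  have hQM : Q ≤ M := fun m hm => by
    obtain ⟨hm1, hm2⟩ := (E.mem_prt C.hy hq hqp).1 hm
    have h1 := E.inv_mod_center hq hqp C.hy (C.v_mem E) hvy C.notMem hm
    refine hodd M m hm2 ?_
    have h2 : m ^ 2 = (m * v * m⁻¹) * v⁻¹ * ((v * m * v⁻¹ * m)) := by rw [pow_two]; group
    rw [h2]
    exact mul_mem (mul_mem (hMn.conj_mem v hvM m) (inv_mem hvM)) (hZM h1)
  set L := normalClosure (Q : Set G) ⊔ center G with hL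
  haveI hLn : L.Normal := sup_normal _ _
  have hLM : L ≤ M := sup_le (normalClosure_le_normal hQM) hZM
  haveI hLs : Group.IsSolvable L :=
    Group.isSolvable_of_isSolvable_injective (inclusion_injective hLM)
  set K := ⁅L, L⁆ ⊔ center G with hK
  haveI hKn : K.Normal := sup_normal _ _
  have hKL : K ≤ L := sup_le (commutator_le_self L) le_sup_right
  have hQL : Q ≤ L := le_sup_of_le_left subset_normalClosure
  set H := K ⊔ Q with hH
  have hHL : H ≤ L := sup_le hKL hQL
  haveI : (H.subgroupOf L).Normal := by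
    refine ⟨fun x hx l => mem_subgroupOf.2 ?_⟩
    have h1 : ⁅(l : G), (x : G)⁆ ∈ H :=
      mem_sup_left (mem_sup_left (commutator_mem_commutator l.2 x.2))
    have h2 := mul_mem h1 (mem_subgroupOf.1 hx)
    rw [commutatorElement_def, inv_mul_cancel_right] at h2
    exact h2
  have hLH : L ≤ H := by
    refine sup_le ((closure_le _).2 fun x hx => ?_) (le_sup_of_le_left le_sup_right)
    obtain ⟨m, hmQ, hx⟩ := Group.mem_conjugatesOfSet_iff.1 hx
    obtain ⟨c, hc⟩ := isConj_iff.1 hx
    have hxr : IsPEl q x := hc ▸ IsPEl.conj' ((E.mem_prt C.hy hq hqp).1 hmQ).2 c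
    have hxL : x ∈ L := hc ▸ hLn.conj_mem m (hQL hmQ) c
    have hpp : pp q (⊤ : Subgroup L) ≤ pp q (H.subgroupOf L) := by
      have e1 : pp q (⊤ : Subgroup L) = pp q L := by
        rw [pp, pp, Nat.card_congr Subgroup.topEquiv.toEquiv]
      have e2 : pp q (H.subgroupOf L) = pp q H := by
        rw [pp, pp, Nat.card_congr (subgroupOfEquivOfLe hHL).toEquiv]
      rw [e1, e2]
      refine (pp_le_full L).trans ?_
      rw [← hQc]
      exact card_le_pp le_sup_right (E.isPGroup_prt C.hy hq hqp)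
    have hxr' : IsPEl q (⟨x, hxL⟩ : L) := hxr.imp fun _ h => Subtype.ext h
    exact mem_subgroupOf.1 (mem_of_normal (C := H.subgroupOf L) le_top hpp hxr' (mem_top _))
  have hne : ¬ L ≤ K := by
    intro hle
    obtain ⟨m, hm, hmE, -, -, -⟩ := E.exists_noncentral_prt hqp hqd C.hy
    have hLbot : ⁅L, L⁆ ≠ ⊥ → ⁅⁅L, L⁆, ⁅L, L⁆⁆ < ⁅L, L⁆ := fun h => by
      haveI : Group.IsSolvable (⁅L, L⁆ : Subgroup G) :=
        Group.isSolvable_of_isSolvable_injective (inclusion_injective (commutator_le_self L))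
      haveI : Nontrivial (⁅L, L⁆ : Subgroup G) := (nontrivial_iff_ne_bot _).2 h
      refine lt_of_le_of_ne (commutator_le_self _) fun he =>
        (Group.IsSolvable.commutator_lt_top_of_nontrivial (⁅L, L⁆ : Subgroup G)).ne ?_
      refine map_injective (subtype_injective _) ?_
      rw [map_subtype_commutator, he, ← MonoidHom.range_eq_map, range_subtype]
    have h1 : ⁅L, L⁆ ≤ ⁅⁅L, L⁆, ⁅L, L⁆⁆ := by
      refine commutator_le.2 fun a ha b hb => ?_
      obtain ⟨a1, ha1, a2, ha2, rfl⟩ := mem_sup_of_normal_right.1 (hle ha)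
      obtain ⟨b1, hb1, b2, hb2, rfl⟩ := mem_sup_of_normal_right.1 (hle hb)
      have e : ⁅a1 * a2, b1 * b2⁆ = ⁅a1, b1⁆ := by
        rw [commutatorElement_def, commutatorElement_def]
        calc a1 * a2 * (b1 * b2) * (a1 * a2)⁻¹ * (b1 * b2)⁻¹
            = a1 * ((a2 * (b1 * b2)) * a2⁻¹) * a1⁻¹ * (b2⁻¹ * b1⁻¹) := by group
          _ = a1 * (b1 * b2) * a1⁻¹ * (b2⁻¹ * b1⁻¹) := by
              rw [← mem_center_iff.1 ha2 (b1 * b2), mul_inv_cancel_right]
          _ = a1 * b1 * (b2 * a1⁻¹) * b2⁻¹ * b1⁻¹ := by group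
          _ = a1 * b1 * (a1⁻¹ * b2) * b2⁻¹ * b1⁻¹ := by rw [mem_center_iff.1 hb2 a1⁻¹]
          _ = a1 * b1 * a1⁻¹ * b1⁻¹ := by group
      exact e ▸ commutator_mem_commutator ha1 hb1
    by_cases h0 : ⁅L, L⁆ = ⊥
    · refine hmE.2 ?_
      have := hle (hQL hm)
      rwa [hK, h0, bot_sup_eq] at this
    · exact not_lt_of_ge h1 (hLbot h0)
  have hcen : ∀ l ∈ L, (w : G ⧸ K) * l = (l : G ⧸ K) * w := by
    intro l hl
    obtain ⟨k, hk, m, hm, rfl⟩ := mem_sup_of_normal_left.1 (hLH hl)
    rw [QuotientGroup.mk_mul, (QuotientGroup.eq_one_iff k).2 hk, one_mul, ← QuotientGroup.mk_mul,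
      ← QuotientGroup.mk_mul,
      E.commute C.hy hwy (IsPEl.not_dvd E.hp Nat.prime_two C.hne hwr) (prt_le _ _ hm)]
  refine hne (hLH.trans (sup_le le_rfl fun m hm => ?_))
  obtain ⟨hm1, hm2⟩ := (E.mem_prt C.hy hq hqp).1 hm
  refine hodd K m hm2 ?_
  have hmg : g⁻¹ * m * g ∈ L := by
    have := hLn.conj_mem m (hQL hm) g⁻¹
    rwa [inv_inv] at this
  have h3 := hcen _ hmg
  have h4 : (v : G ⧸ K) * m = (m : G ⧸ K) * v := by
    have h5 := congrArg (fun t => (g : G ⧸ K) * t * (g : G ⧸ K)⁻¹) h3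
    simp only [← QuotientGroup.mk_mul, ← QuotientGroup.mk_inv] at h5 ⊢
    convert h5 using 2 <;> (rw [hw]; group)
  have h6 : v * m * v⁻¹ * m⁻¹ ∈ K := by
    refine (QuotientGroup.eq_one_iff _).1 ?_
    simp only [QuotientGroup.mk_mul, QuotientGroup.mk_inv, h4]
    group
  have h7 := E.inv_mod_center hq hqp C.hy (C.v_mem E) hvy C.notMem hm
  have h8 : m ^ 2 = (v * m * v⁻¹ * m⁻¹)⁻¹ * (v * m * v⁻¹ * m) := by rw [pow_two]; group
  rw [h8]
  exact mul_mem (inv_mem h6) (mem_sup_right h7)

end Cfsg.Agent.ClassSize.ThreeSizes
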