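import Cfsg.Agent.Lib.ClassSize.ThreeSizes.Basic
import Cfsg.Agent.Lib.ClassSize.ThreeSizes.MainLemma
import Cfsg.Agent.Lib.Transfer.Burnside
import Cfsg.Agent.S4034

/-!
# Three class sizes without inclusions between centralisers

All centralisers of noncentral elements are either abelian or of prime power order modulo the centre.
With one prime power type the main lemma applies to `G`; otherwise each type is one conjugacy
class of abelian subgroups, counting makes one of them self-normalising, and the main lemma applies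
to the derived group.
-/

set_option autoImplicit false
set_option linter.unusedSectionVars false
set_option linter.style.haveILetI false

namespace Cfsg.Agent.ClassSize.ThreeSizes

open Subgroup Cfsg.Agent.ClassSize.CoprimeTop Cfsg.Agent.ClassSize.TwoSteps
open scoped commutatorElement

universe u₁

variable {G : Type u₁} [Group G] [Finite G] {n m p : ℕ}

/-- No inclusions between centralisers of noncentral elements. -/
def NoTop (G : Type*) [Group G] : Prop :=
  ∀ a b : G, a ∉ center G → b ∉ center G → cent a ≤ cent b → cent a = cent b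

/-- Only the prime `p` appears in `cent x` modulo the centre. -/
def Single (p : ℕ) (x : G) : Prop :=
  ∀ r : ℕ, r.Prime → r ≠ p → pp r (cent x) = pp r (center G)

theorem NoTop.eq_of_coprime (hF : NoTop G) {a b : G} (ha : a ∉ center G) (hb : b ∉ center G)
    (hab : b ∈ cent a) (hco : (orderOf a).Coprime (orderOf b)) : cent a = cent b := by
  have h := cent_mul_coprime (mem_cent.1 hab) hco
  have hne : a * b ∉ center G := fun hZ => by
    have h1 : cent (a * b) = ⊤ := index_eq_one.1 (cl_eq_one.2 hZ)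
    rw [h, inf_eq_top_iff] at h1
    exact ha (cl_eq_one.1 (index_eq_one.2 h1.1))
  rw [← hF _ _ hne ha (h ▸ inf_le_left), ← hF _ _ hne hb (h ▸ inf_le_right)]

theorem NoTop.commutative (hF : NoTop G) {x : G} (hx : x ∉ center G) (h : ∀ p, ¬ Single p x) :
    ∀ a ∈ cent x, ∀ b ∈ cent x, a * b = b * a := by
  obtain ⟨r, x', hr, -, hx'r, -, hx'Z, hle⟩ := exists_primary hx
  have hxx := hF x x' hx hx'Z hle
  obtain ⟨q, hq, hqr, hqp⟩ : ∃ q : ℕ, q.Prime ∧ q ≠ r ∧ pp q (cent x) ≠ pp q (center G) := by
    simpa [Single] using h r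
  haveI := Fact.mk hq
  haveI := Fact.mk hr
  obtain ⟨c, hc, hcq, hcZ⟩ := exists_pEl_of_lt
    (lt_of_le_of_ne (pp_mono (center_le_cent x)) hqp.symm)
  have hcc : cent c = cent x := by
    rw [hxx] at hc ⊢
    exact (hF.eq_of_coprime hx'Z hcZ hc (hx'r.coprime hr hq hqr.symm hcq)).symm
  have key : ∀ {s : ℕ}, s.Prime → ∀ g ∈ cent x, IsPEl s g → g ∉ center G → cent g = cent x := by
    intro s hs g hg hgs hgZ
    rcases eq_or_ne s r with hsr | hsr
    · rw [← hcc] at hg ⊢
      exact (hF.eq_of_coprime hcZ hgZ hg (hcq.coprime hq hs (hsr ▸ hqr) hgs)).symm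
    · rw [hxx] at hg ⊢
      exact (hF.eq_of_coprime hx'Z hgZ hg (hx'r.coprime hr hs hsr.symm hgs)).symm
  intro a ha b hb
  refine mem_cent.1 (mem_of_forall_primary fun s hs z hz hzs => ?_)
  have hzx : z ∈ cent x := zpowers_le.2 hb hz
  by_cases hzZ : z ∈ center G
  · exact center_le_cent a hzZ
  · exact cent_comm.1 ((key hs z hzx hzs hzZ).symm ▸ ha)

theorem Three.not_single_two (S : Three G n m) (hns : ¬ Group.IsSolvable G) {a b : G} {p q : ℕ}
    (ha : Single p a) (hb : Single q b) (hab : cl a ≠ cl b) (haZ : a ∉ center G)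
    (hbZ : b ∉ center G) : False := by
  obtain ⟨r, hr, hrp, hrq, hrd⟩ := exists_third hns p q
  haveI := Fact.mk hr
  obtain ⟨v, -, hvZ, hlt⟩ := exists_cent_gt hrd
  have hva : cl v = cl a ∨ cl v = cl b := by
    rcases S.noncentral hvZ with h | h <;> rcases S.noncentral haZ with h1 | h1 <;>
      rcases S.noncentral hbZ with h2 | h2 <;> omega
  rcases hva with h | h
  · rw [pp_eq_of_cl_eq r h, ha r hr hrp] at hlt; exact lt_irrefl _ hlt
  · rw [pp_eq_of_cl_eq r h, hb r hr hrq] at hlt; exact lt_irrefl _ hlt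

theorem Single.of_cl_eq {a b : G} {p : ℕ} (ha : Single p a) (h : cl b = cl a) : Single p b :=
  fun r hr hrp => (pp_eq_of_cl_eq r h).trans (ha r hr hrp)

/-- One type of prime power order modulo the centre. -/
theorem Three.solvable_of_single (S : Three G n m) (hns : ¬ Group.IsSolvable G) (hF : NoTop G)
    {x : G} {p : ℕ} (hx : x ∉ center G) (hp : Single p x) : False := by
  have hpp : p.Prime := by
    obtain ⟨s, g, hs, -, hgs, hgm, hgZ, -⟩ := exists_primary hx
    haveI := Fact.mk hs
    have hlt := pp_center_lt_of_notMem (center_le_cent x) hgs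
      (zpowers_le.2 (self_mem_cent x) hgm) hgZ
    rcases ne_or_eq s p with h | h
    · rw [hp s hs h] at hlt; exact absurd hlt (lt_irrefl _)
    · exact h ▸ hs
  have hne : ∀ y : G, Elt p y → cl y ≠ cl x := by
    intro y hy he
    obtain ⟨r, y', hr, hrd, hy'r, hy'm, hy'Z, -⟩ := exists_primary hy.2
    haveI := Fact.mk hr
    have hlt := pp_center_lt_of_notMem (center_le_cent y) hy'r
      (zpowers_le.2 (self_mem_cent y) hy'm) hy'Z
    rw [(hp.of_cl_eq he) r hr fun h => hy.1 (h ▸ hrd)] at hlt
    exact lt_irrefl _ hlt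
  have hab : ∀ y : G, Elt p y → ∀ a ∈ cent y, ∀ b ∈ cent y, a * b = b * a := fun y hy =>
    hF.commutative hy.2 fun q hq => S.not_single_two hns hp hq (hne y hy).symm hx hy.2
  have hsame : ∀ y z : G, Elt p y → Elt p z → cl y = cl z := by
    intro y z hy hz
    have := hne y hy
    have := hne z hz
    rcases S.noncentral hx with h | h <;> rcases S.noncentral hy.2 with h1 | h1 <;>
      rcases S.noncentral hz.2 with h2 | h2 <;> omega
  obtain ⟨t, ht, htp, -, htd⟩ := exists_third hns p p
  obtain ⟨q, hq, hqp, hqt, hqd⟩ := exists_third hns p t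
  have E : Reg G p :=
    { hp := hpp
      eq := fun y z hy hz hzy => (hF y z hy.2 hz.2 fun v hv => mem_cent.2 (hab y hy z hzy v hv)).symm
      card := fun y z hy hz r _ _ => pp_eq_of_cl_eq r (hsame y z hy hz)
      two := ⟨t, q, ht, hq, hqt.symm, htp, hqp, htd, hqd⟩ }
  refine hns (S4034.isSolvable_of_classPow hpp _ G rfl fun q' b hq' hq'p y hy => ?_)
  by_cases hyZ : y ∈ center G
  · exact ⟨0, (cl_eq_one.2 hyZ).trans (pow_zero p).symm⟩
  · refine ⟨_, Nat.eq_prime_pow_of_unique_prime_dvd index_ne_zero_of_finite fun {d} hd hdd => ?_⟩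
    by_contra hdp
    exact E.not_dvd_index (elt_of_pEl hpp hq' hq'p ⟨b, hy ▸ pow_orderOf_eq_one y⟩ hyZ) hd hdp hdd

/-- Elements with centraliser conjugate to `cent y`. -/
theorem card_conj_le (y : G) :
    Nat.card {g : G // g ∉ center G ∧ ∃ h : G, cent g = cent (h * y * h⁻¹)} ≤
      (normalizer (cent y : Set G)).index * (Nat.card (cent y) - Nat.card (center G)) := by
  classical
  set N := normalizer (cent y : Set G) with hN
  have hd : Nat.card {d : G // d ∈ cent y ∧ d ∉ center G} =
      Nat.card (cent y) - Nat.card (center G) := by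
    rw [show Nat.card {d : G // d ∈ cent y ∧ d ∉ center G} =
      ((cent y : Set G) \ (center G : Set G)).ncard from Nat.card_coe_set_eq _,
      Set.ncard_diff (center_le_cent y : (center G : Set G) ⊆ cent y),
      ← Nat.card_coe_set_eq, ← Nat.card_coe_set_eq]
    rfl
  rw [← hd, index, ← Nat.card_prod]
  have hkey : ∀ g : G, ∀ h : G, cent g = cent (h * y * h⁻¹) →
      ((h : G ⧸ N).out)⁻¹ * g * (h : G ⧸ N).out ∈ cent y := by
    intro g h hgh
    obtain ⟨k, hk⟩ := QuotientGroup.mk_out_eq_mul N h
    rw [hk]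
    have h1 : h⁻¹ * g * h ∈ cent y := mem_cent_conj.1 (hgh ▸ self_mem_cent g)
    have h2 := conj_mem_cent (inv_mem k.2) h1
    simpa [mul_assoc] using h2
  have hnz : ∀ g k : G, g ∉ center G → k⁻¹ * g * k ∉ center G := fun g k hg hZ => hg (by
    have := Normal.conj_mem (inferInstance : (center G).Normal) _ hZ k
    simpa [mul_assoc] using this)
  refine Nat.card_le_card_of_injective (fun g => (((g.2.2.choose : G) : G ⧸ N),
    ⟨_, hkey g.1 _ g.2.2.choose_spec, hnz g.1 _ g.2.1⟩)) fun a b hab => ?_
  obtain ⟨e1, e2⟩ := Prod.mk.inj hab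
  have e3 := congrArg Subtype.val e2
  simp only [e1] at e3
  exact Subtype.ext (mul_left_cancel (mul_right_cancel e3))

/-- All centralisers abelian of two types. -/
theorem Three.solvable_of_multi (S : Three G n m) (hF : NoTop G)
    (hn : ∃ x : G, cl x = n) (hm : ∃ x : G, cl x = m)
    (hns : ¬ Group.IsSolvable G) (hmulti : ∀ x : G, x ∉ center G → ∀ p, ¬ Single p x) : False := by
  obtain ⟨p, hpge, hp⟩ := Nat.exists_infinite_primes (Nat.card G + 1)
  have hpG : ∀ g : G, ¬ p ∣ orderOf g := fun g h => by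
    have := Nat.le_of_dvd Nat.card_pos (h.trans (orderOf_dvd_natCard g))
    omega
  have hab : ∀ x : G, x ∉ center G → ∀ a ∈ cent x, ∀ b ∈ cent x, a * b = b * a := fun x hx =>
    hF.commutative hx (hmulti x hx)
  have hrich : ∀ x : G, x ∉ center G → ∀ r : ℕ, ∃ q : ℕ, q.Prime ∧ q ≠ r ∧ q ≠ p ∧
      pp q (center G) < pp q (cent x) := by
    intro x hx r
    obtain ⟨q, hq, hqr, hne⟩ : ∃ q : ℕ, q.Prime ∧ q ≠ r ∧ pp q (cent x) ≠ pp q (center G) := by
      simpa [Single] using hmulti x hx r
    haveI := Fact.mk hq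
    have hlt : pp q (center G) < pp q (cent x) :=
      lt_of_le_of_ne (pp_mono (center_le_cent x)) hne.symm
    refine ⟨q, hq, hqr, fun h => ?_, hlt⟩
    obtain ⟨v, -, hv, hvZ⟩ := exists_pEl_of_lt hlt
    obtain ⟨k, hk⟩ := hv.orderOf_dvd
    have h1 : orderOf v ≠ 1 := fun h1 => hvZ (by rw [orderOf_eq_one_iff.1 h1]; exact one_mem _)
    obtain ⟨d, hd, hdd⟩ := Nat.exists_prime_and_dvd h1
    exact hpG v (h ▸ (Nat.prime_dvd_prime_iff_eq hd hq).1 (hd.dvd_of_dvd_pow (hdd.trans hk)) ▸ hdd)
  have E : Rich G p :=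
    { hp := hp
      eq := fun y z hy hz hzy => (hF y z hy.2 hz.2 fun v hv =>
        mem_cent.2 (hab y hy.2 z hzy v hv)).symm
      rich := fun y hy r => by
        obtain ⟨q, hq, hqr, hqp, hlt⟩ := hrich y hy.2 r
        haveI := Fact.mk hq
        exact ⟨q, hq, hqr, hqp, exists_pEl_of_lt hlt⟩ }
  have helt : ∀ g : G, g ∉ center G → Elt p g := fun g hg => ⟨hpG g, hg⟩
  have hconj : ∀ y₁ y₂ : G, y₁ ∉ center G → y₂ ∉ center G → cl y₁ = cl y₂ →
      ∃ g : G, cent (g * y₁ * g⁻¹) = cent y₂ := by
    intro y₁ y₂ h₁ h₂ hcl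
    obtain ⟨t, ht, -, htp, htd⟩ := hrich y₁ h₁ p
    obtain ⟨q, hq, hqt, hqp, hqd⟩ := hrich y₁ h₁ t
    haveI := Fact.mk ht
    haveI := Fact.mk hq
    have hdvd : ∀ r : ℕ, r.Prime → pp r (center G) < pp r (cent y₁) → r ∣ (center G).index :=
      fun r hr hlt => by
        haveI := Fact.mk hr
        obtain ⟨v, -, hv, hvZ⟩ := exists_pEl_of_lt hlt
        exact dvd_index_center hv hvZ
    have hbig : ∀ r : ℕ, Big r y₁ → Big r y₂ := fun r hb => by
      unfold Big at hb ⊢
      rwa [← pp_eq_of_cl_eq r hcl]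
    by_cases hbt : Big t y₁
    · exact E.exists_conj htp (helt _ h₁) (helt _ h₂) hbt (hbig t hbt) (hdvd t ht htd)
    by_cases hbq : Big q y₁
    · exact E.exists_conj hqp (helt _ h₁) (helt _ h₂) hbq (hbig q hbq) (hdvd q hq hqd)
    exfalso
    have small : ∀ r : ℕ, r.Prime → pp r (center G) < pp r (cent y₁) → ¬ Big r y₁ →
        pp r (cent y₁) ≠ full G r ∧ pp r (cent y₁) = r * pp r (center G) := by
      intro r hr hlt hb
      obtain ⟨hb1, hb2⟩ := not_or.1 hb
      refine ⟨hb2, le_antisymm (not_lt.1 hb1) ?_⟩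
      simp only [pp] at hlt ⊢
      rw [Nat.pow_lt_pow_iff_right hr.one_lt] at hlt
      rw [← pow_succ']
      exact Nat.pow_le_pow_right hr.pos hlt
    obtain ⟨ht1, ht2⟩ := small t ht htd hbt
    obtain ⟨hq1, hq2⟩ := small q hq hqd hbq
    obtain ⟨g, hg, hgn, hgy⟩ := E.toCentEq.exists_normalizing htp (helt _ h₁) ht1 htd
    have d1 := E.toCentEq.dvd_sub_one hqt hqp (helt _ h₁) hg hgn hgy hq2
    obtain ⟨g', hg', hgn', hgy'⟩ := E.toCentEq.exists_normalizing hqp (helt _ h₁) hq1 hqd
    have d2 := E.toCentEq.dvd_sub_one hqt.symm htp (helt _ h₁) hg' hgn' hgy' ht2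
    have := Nat.le_of_dvd (by have := hq.two_le; omega) d1
    have := Nat.le_of_dvd (by have := ht.two_le; omega) d2
    omega
  -- some centraliser is its own normaliser
  obtain ⟨y, hyZ, hyN⟩ : ∃ y : G, y ∉ center G ∧ normalizer (cent y : Set G) = cent y := by
    by_contra hne
    push Not at hne
    obtain ⟨a, ha⟩ := hn
    obtain ⟨b, hb⟩ := hm
    have haZ := S.notMem (Or.inl ha)
    have hbZ := S.notMem (Or.inr hb)
    have hbound : ∀ y : G, y ∉ center G →
        2 * ((normalizer (cent y : Set G)).index * Nat.card (cent y)) ≤ Nat.card G := by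
      intro y hy
      set N := normalizer (cent y : Set G) with hN
      have h1 : Nat.card (cent y) ∣ Nat.card N := card_dvd_of_le le_normalizer
      obtain ⟨c, hc⟩ := h1
      have hc2 : 2 ≤ c := by
        rcases c with _ | _ | c
        · rw [mul_zero] at hc; exact absurd hc Nat.card_pos.ne'
        · exact absurd (eq_of_le_of_card_ge le_normalizer (by rw [hc]; simp)).symm (hne y hy)
        · omega
      calc 2 * (N.index * Nat.card (cent y)) = N.index * (Nat.card (cent y) * 2) := by ring
        _ ≤ N.index * Nat.card N := by rw [hc]; exact Nat.mul_le_mul_left _ (Nat.mul_le_mul_left _ hc2)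
        _ = Nat.card G := by rw [mul_comm, card_mul_index]
    let Sa : Set G := {g | g ∉ center G ∧ ∃ h : G, cent g = cent (h * a * h⁻¹)}
    let Sb : Set G := {g | g ∉ center G ∧ ∃ h : G, cent g = cent (h * b * h⁻¹)}
    have hcov : (Set.univ : Set G) \ (center G : Set G) ⊆ Sa ∪ Sb := by
      rintro g ⟨-, hg⟩
      rcases S.noncentral hg with h | h
      · obtain ⟨k, hk⟩ := hconj a g haZ hg (ha.trans h.symm)
        exact Or.inl ⟨hg, k, hk.symm⟩
      · obtain ⟨k, hk⟩ := hconj b g hbZ hg (hb.trans h.symm)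
        exact Or.inr ⟨hg, k, hk.symm⟩
    have h1 := (Set.ncard_le_ncard hcov (Set.toFinite _)).trans (Set.ncard_union_le Sa Sb)
    rw [Set.ncard_diff (Set.subset_univ _), Set.ncard_univ, ← Nat.card_coe_set_eq] at h1
    have h2 : Sa.ncard ≤ _ := (Nat.card_coe_set_eq Sa).symm.le.trans (card_conj_le a)
    have h3 : Sb.ncard ≤ _ := (Nat.card_coe_set_eq Sb).symm.le.trans (card_conj_le b)
    have hba := hbound a haZ
    have hbb := hbound b hbZ
    set i := (normalizer (cent a : Set G)).index
    set j := (normalizer (cent b : Set G)).index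
    have hi : 0 < i := Nat.pos_of_ne_zero index_ne_zero_of_finite
    have hj : 0 < j := Nat.pos_of_ne_zero index_ne_zero_of_finite
    have hz : 0 < Nat.card (center G) := Nat.card_pos
    have hza : Nat.card (center G) ≤ i * Nat.card (center G) := Nat.le_mul_of_pos_left _ hi
    have hzb : Nat.card (center G) ≤ j * Nat.card (center G) := Nat.le_mul_of_pos_left _ hj
    have hda : i * Nat.card (center G) ≤ i * Nat.card (cent a) :=
      Nat.mul_le_mul_left _ (Subgroup.card_le_of_le (center_le_cent a))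
    have hdb : j * Nat.card (center G) ≤ j * Nat.card (cent b) :=
      Nat.mul_le_mul_left _ (Subgroup.card_le_of_le (center_le_cent b))
    rw [Nat.mul_sub_left_distrib] at h2 h3
    change Nat.card G - Nat.card (center G) ≤ _ at h1
    omega
  -- primes of the self-normalising centraliser do not divide the derived group
  set K := _root_.commutator G with hK
  have hKy : ∀ g ∈ K, g ∉ center G → cl g ≠ cl y := by
    intro g hg hgZ he
    obtain ⟨r, g', hr, -, hg'r, hg'm, hg'Z, -⟩ := exists_primary hgZ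
    haveI := Fact.mk hr
    have hlt := pp_center_lt_of_notMem (center_le_cent g) hg'r
      (zpowers_le.2 (self_mem_cent g) hg'm) hg'Z
    rw [pp_eq_of_cl_eq r he] at hlt
    have hrp : r ≠ p := fun h => by
      obtain ⟨k, hk⟩ := hg'r.orderOf_dvd
      have h1 : orderOf g' ≠ 1 := fun h1 => hg'Z (by rw [orderOf_eq_one_iff.1 h1]; exact one_mem _)
      obtain ⟨d, hd, hdd⟩ := Nat.exists_prime_and_dvd h1
      exact hpG g' ((h ▸ (Nat.prime_dvd_prime_iff_eq hd hr).1 (hd.dvd_of_dvd_pow (hdd.trans hk))) ▸ hdd)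
    have hfull : pp r (cent y) = full G r := by
      by_contra hne
      obtain ⟨k, -, hk, hky⟩ := E.toCentEq.exists_normalizing hrp (helt y hyZ) hne hlt
      exact hky (hyN ▸ hk)
    obtain ⟨R, hR⟩ := (E.isPGroup_prt (helt y hyZ) hr hrp).exists_le_sylow
    have hRe : prt r (cent y) = R :=
      eq_of_le_of_card_ge hR (by rw [E.card_prt (helt y hyZ) hrp, hfull, full, sylow_card])
    have hNC : normalizer ((R : Subgroup G) : Set G) ≤ centralizer ((R : Subgroup G) : Set G) := by
      intro a ha
      obtain ⟨w, hw, hwr, hwZ⟩ := exists_pEl_of_lt hlt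
      have h1 : a ∈ cent y := hyN ▸ E.mem_normalizer (helt y hyZ) (helt w hwZ) hw (prt_le r _ (by
        rw [hRe]; exact (mem_normalizer_iff.1 ha w).1 (hRe ▸ mem_prt_of hw hwr)))
      exact mem_centralizer_iff.2 fun b hb =>
        hab y hyZ b (prt_le r _ (hRe.symm ▸ hb)) a h1
    have h0 := Transfer.inf_centralizer_normalizer_inf_commutator_eq_bot R
      ⟨⟨fun a b => Subtype.ext (hab y hyZ _ (prt_le r _ (hRe.symm ▸ a.2)) _
        (prt_le r _ (hRe.symm ▸ b.2)))⟩⟩
    have hRC : (R : Subgroup G) ≤ centralizer (normalizer ((R : Subgroup G) : Set G) : Set G) :=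
      fun b hb => mem_centralizer_iff.2 fun a ha => (mem_centralizer_iff.1 (hNC ha) b hb).symm
    have h0' : (R : Subgroup G) ⊓ K = ⊥ := by
      rw [eq_bot_iff, ← h0]
      exact le_inf (le_inf inf_le_left (inf_le_left.trans hRC)) inf_le_right
    have hK1 : pp r K = 1 := by
      rw [← card_inf_normal R K, h0', card_bot]
    have hg'K : g' ∈ K := zpowers_le.2 hg hg'm
    have := card_le_pp (p := r) (W := zpowers g') (zpowers_le.2 hg'K) hg'r.isPGroup_zpowers
    rw [hK1, Nat.card_zpowers] at this
    have h1 : orderOf g' ≠ 1 := fun h1 => hg'Z (by rw [orderOf_eq_one_iff.1 h1]; exact one_mem _)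
    have := orderOf_pos g'
    omega
  have hKsol : Group.IsSolvable K := by
    by_contra hKns
    have hcK : ∀ a : K, cent a = (cent (a : G)).subgroupOf K := fun a => by
      ext b
      rw [mem_subgroupOf, mem_cent, mem_cent]
      exact Subtype.ext_iff
    have hKZ : ∀ a : K, a ∉ center K → (a : G) ∉ center G := fun a ha h =>
      ha (mem_center_iff.2 fun b => Subtype.ext (mem_center_iff.1 h b))
    have hKcl : ∀ a b : K, a ∉ center K → b ∉ center K → cl (a : G) = cl (b : G) := by
      intro a b ha hb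
      have := hKy a a.2 (hKZ a ha)
      have := hKy b b.2 (hKZ b hb)
      rcases S.noncentral hyZ with h | h <;> rcases S.noncentral (hKZ a ha) with h1 | h1 <;>
        rcases S.noncentral (hKZ b hb) with h2 | h2 <;> omega
    obtain ⟨t, ht, -, -, htd⟩ := exists_third hKns 0 0
    obtain ⟨q, hq, hqt, -, hqd⟩ := exists_third hKns t t
    have hpK : ∀ r : ℕ, r.Prime → r ∣ (center K).index → r ≠ p := fun r hr hd h => by
      have h1 : p ∣ Nat.card G := h ▸ ((hd.trans (index_dvd_card _)).trans (card_subgroup_dvd_card K))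
      have := Nat.le_of_dvd Nat.card_pos h1
      omega
    have key : ∀ (H : Subgroup G) (g : G),
        Nat.card ↥(H.map (MulAut.conj g).toMonoidHom ⊓ K) = Nat.card ↥(H ⊓ K) := fun H g => by
      have hKn : K.map (MulAut.conj g).toMonoidHom = K := by
        refine le_antisymm ?_ fun a ha => ⟨g⁻¹ * a * g, ?_, by simp [mul_assoc]⟩
        · rintro _ ⟨a, ha, rfl⟩
          exact (inferInstance : K.Normal).conj_mem a ha g
        · simpa using (inferInstance : K.Normal).conj_mem a ha g⁻¹
      calc Nat.card ↥(H.map (MulAut.conj g).toMonoidHom ⊓ K)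
          = Nat.card ↥(H.map (MulAut.conj g).toMonoidHom ⊓ K.map (MulAut.conj g).toMonoidHom) := by
            rw [hKn]
        _ = Nat.card ↥((H ⊓ K).map (MulAut.conj g).toMonoidHom) := by
            rw [map_inf _ _ _ (MulAut.conj g).injective]
        _ = Nat.card ↥(H ⊓ K) := card_map_of_injective (MulAut.conj g).injective
    have EK : Reg K p :=
      { hp := hp
        eq := fun a b ha hb hba => by
          rw [hcK a, hcK b]
          rw [hcK a, mem_subgroupOf] at hba
          rw [E.eq _ _ (helt _ (hKZ a ha.2)) (helt _ (hKZ b hb.2)) hba]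
        card := fun a b ha hb r _ _ => by
          obtain ⟨g, hg⟩ := hconj a b (hKZ a ha.2) (hKZ b hb.2) (hKcl a b ha.2 hb.2)
          rw [hcK a, hcK b, pp, pp]
          congr 2
          rw [← inf_subgroupOf_right, Nat.card_congr (subgroupOfEquivOfLe inf_le_right).toEquiv,
            ← inf_subgroupOf_right (H := cent (b : G)),
            Nat.card_congr (subgroupOfEquivOfLe inf_le_right).toEquiv, ← hg, cent_conj]
          exact congrArg Nat.factorization (key (cent (a : G)) g).symm
        two := ⟨t, q, ht, hq, hqt.symm, hpK t ht htd, hpK q hq hqd, htd, hqd⟩ }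
    refine hKns (Group.isSolvable_of_comm fun a b => ?_)
    by_cases ha : a ∈ center K
    · exact (mem_center_iff.1 ha b).symm
    · have hea : Elt p a := ⟨by rw [← Subgroup.orderOf_coe]; exact hpG a, ha⟩
      have htop : cent a = ⊤ := index_eq_one.1 (by
        by_contra h1
        obtain ⟨r, hr, hrd⟩ := Nat.exists_prime_and_dvd h1
        refine EK.not_dvd_index hea hr (fun h => ?_) hrd
        have h1 : p ∣ Nat.card G := h ▸ ((hrd.trans (index_dvd_card _)).trans (card_subgroup_dvd_card K))
        have := Nat.le_of_dvd Nat.card_pos h1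
        omega)
      exact mem_cent.1 (htop ▸ mem_top b)
  haveI : Group.IsSolvable (G ⧸ K) :=
    inferInstanceAs (Group.IsSolvable (Abelianization G))
  exact hns (Group.isSolvable_of_ker_le_range K.subtype (QuotientGroup.mk' K)
    (by rw [QuotientGroup.ker_mk', range_subtype]))

theorem Three.solvable_of_noTop (S : Three G n m) (hn : ∃ x : G, cl x = n)
    (hm : ∃ x : G, cl x = m) (hns : ¬ Group.IsSolvable G) (hF : NoTop G) : False := by
  by_cases h : ∃ (x : G) (p : ℕ), x ∉ center G ∧ Single p x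
  · obtain ⟨x, p, hx, hp⟩ := h
    exact S.solvable_of_single hns hF hx hp
  · exact S.solvable_of_multi hF hn hm hns fun x hx p hp => h ⟨x, p, hx, hp⟩

end Cfsg.Agent.ClassSize.ThreeSizes
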