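import Cfsg.Agent.Lib.ClassSize.TwoSteps.Basic
import Cfsg.Agent.Lib.MetanilpotentPrim.Structure
import Cfsg.Agent.Lib.Coprime.Action
import Cfsg.Agent.Lib.PGroup.Basic

/-!
# Centralisers of `p`-regular elements: preliminaries

`Elt p y`: `y` is noncentral of order prime to `p`. `CentEq G p`: commuting such elements have the
same centraliser. Under this hypothesis the elements of order prime to `p` in `cent y` commute
with all of `cent y`.
-/

set_option autoImplicit false
set_option linter.unusedSectionVars false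
set_option linter.style.haveILetI false

namespace Cfsg.Agent.ClassSize.ThreeSizes

open Subgroup Cfsg.Agent.ClassSize.CoprimeTop Cfsg.Agent.ClassSize.TwoSteps
open scoped commutatorElement

variable {G : Type*} [Group G] [Finite G] {p r q : ℕ}

/-- A noncentral element of order prime to `p`. -/
def Elt (p : ℕ) (y : G) : Prop := ¬ p ∣ orderOf y ∧ y ∉ center G

/-- Commuting noncentral elements of order prime to `p` have the same centraliser. -/
structure CentEq (G : Type*) [Group G] (p : ℕ) : Prop where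
  hp : p.Prime
  eq : ∀ y z : G, Elt p y → Elt p z → z ∈ cent y → cent z = cent y

theorem isPEl_one (r : ℕ) : IsPEl r (1 : G) := ⟨0, one_pow _⟩

theorem IsPEl.not_dvd (hp : p.Prime) (hr : r.Prime) (hne : r ≠ p) {y : G} (hy : IsPEl r y) :
    ¬ p ∣ orderOf y := fun h => by
  obtain ⟨k, hk⟩ := hy.orderOf_dvd
  exact hne ((Nat.prime_dvd_prime_iff_eq hp hr).1 (hp.dvd_of_dvd_pow (h.trans hk))).symm

theorem elt_of_pEl (hp : p.Prime) (hr : r.Prime) (hne : r ≠ p) {y : G} (hy : IsPEl r y)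
    (hyZ : y ∉ center G) : Elt p y :=
  ⟨IsPEl.not_dvd hp hr hne hy, hyZ⟩

theorem cent_mul_center {z : G} (hz : z ∈ center G) (x : G) : cent (z * x) = cent x := by
  ext v
  have h := mem_center_iff.1 hz v
  rw [mem_cent, mem_cent, mul_assoc, ← mul_assoc v, h, mul_assoc]
  exact ⟨mul_left_cancel, fun h' => by rw [h']⟩

theorem mem_cent_conj {g x v : G} : v ∈ cent (g * x * g⁻¹) ↔ g⁻¹ * v * g ∈ cent x :=
  cent_conj_mem

/-- An element of `r`-power order killed by a number prime to `r` is trivial. -/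
theorem eq_one_of_pow {η : G} (hη : IsPEl r η) {N : ℕ} (hN : r.Coprime N) (h : η ^ N = 1) :
    η = 1 := by
  obtain ⟨k, hk⟩ := hη.orderOf_dvd
  exact orderOf_eq_one_iff.1
    (Nat.eq_one_of_dvd_coprimes (hN.pow_left k) hk (orderOf_dvd_of_pow_eq_one h))

theorem conj_pow_of_center {g w η : G} (hη : η ∈ center G) (h : g * w * g⁻¹ = η * w) :
    ∀ N : ℕ, g ^ N * w * (g ^ N)⁻¹ = η ^ N * w
  | 0 => by simp
  | N + 1 => by
    have ih := conj_pow_of_center hη h N
    have hc := mem_center_iff.1 (pow_mem hη N) g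
    calc g ^ (N + 1) * w * (g ^ (N + 1))⁻¹ = g * (g ^ N * w * (g ^ N)⁻¹) * g⁻¹ := by
          rw [pow_succ' g N, mul_inv_rev]; group
      _ = g * η ^ N * (w * g⁻¹) := by rw [ih]; group
      _ = η ^ N * (g * w * g⁻¹) := by rw [hc]; group
      _ = η ^ (N + 1) * w := by rw [h, pow_succ, mul_assoc]

/-- If a coprime power of `g` centralises `w` and `g` fixes `w` modulo the centre then `g`
centralises `w`. -/
theorem mem_cent_of_pow {g w η : G} (hη : η ∈ center G) (h : g * w * g⁻¹ = η * w)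
    (hηr : IsPEl r η) {N : ℕ} (hN : r.Coprime N) (hg : g ^ N ∈ cent w) : g ∈ cent w := by
  have h1 : η ^ N * w = w := by
    rw [← conj_pow_of_center hη h N, ← mem_cent.1 hg, mul_inv_cancel_right]
  have h2 : η = 1 := eq_one_of_pow hηr hN (mul_eq_right.1 h1)
  rw [h2, one_mul, mul_inv_eq_iff_eq_mul] at h
  exact mem_cent.2 h.symm

theorem IsPEl.conj' {g : G} (hg : IsPEl r g) (h : G) : IsPEl r (h * g * h⁻¹) := by
  obtain ⟨k, hk⟩ := hg
  exact ⟨k, by rw [conj_pow, hk, mul_one, mul_inv_cancel]⟩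

theorem IsPEl.inv {g : G} (hg : IsPEl r g) : IsPEl r g⁻¹ := by
  obtain ⟨k, hk⟩ := hg
  exact ⟨k, by rw [inv_pow, hk, inv_one]⟩

theorem IsPEl.mul {a b : G} (ha : IsPEl r a) (hb : IsPEl r b) (hab : a * b = b * a) :
    IsPEl r (a * b) := by
  obtain ⟨i, hi⟩ := ha
  obtain ⟨j, hj⟩ := hb
  refine ⟨i + j, ?_⟩
  rw [(show Commute a b from hab).mul_pow, pow_add, pow_mul, hi, one_pow, one_mul, mul_comm (r ^ i),
    pow_mul, hj, one_pow]

/-- The `r`-part of the centre. -/
theorem pp_center_lt_of_notMem [Fact r.Prime] {H : Subgroup G} (hH : center G ≤ H) {v : G}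
    (hv : IsPEl r v) (hvH : v ∈ H) (hvZ : v ∉ center G) : pp r (center G) < pp r H := by
  obtain ⟨W, hWZ, hW, hWc⟩ := exists_pp_subgroup r (center G)
  have hWn : W ≤ normalizer (zpowers v : Set G) := fun w hw =>
    centralizer_le_normalizer _ (mem_centralizer_iff.2 fun y _ => mem_center_iff.1 (hWZ hw) y)
  have hp' : IsPGroup r ↥(W ⊔ zpowers v) := hW.to_sup_of_normal_right' hv.isPGroup_zpowers hWn
  rw [← hWc]
  refine lt_of_lt_of_le ?_ (card_le_pp (sup_le (hWZ.trans hH) (zpowers_le.2 hvH)) hp')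
  refine lt_of_le_of_ne (Subgroup.card_le_of_le le_sup_left) fun h => ?_
  exact hvZ (hWZ ((eq_of_le_of_card_ge le_sup_left h.ge).symm ▸
    mem_sup_right (mem_zpowers v)))

theorem exists_pEl_of_lt [Fact r.Prime] {H : Subgroup G} (h : pp r (center G) < pp r H) :
    ∃ v ∈ H, IsPEl r v ∧ v ∉ center G := by
  obtain ⟨W, hW, hWr, hWc⟩ := exists_pp_subgroup r H
  obtain ⟨v, hv, hvZ⟩ := exists_notMem_center hWr (hWc ▸ h)
  exact ⟨v, hW hv, isPEl_of_mem hWr hv, hvZ⟩

theorem exists_pEl_of_dvd [hr : Fact r.Prime] (h : r ∣ (center G).index) :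
    ∃ v : G, IsPEl r v ∧ v ∉ center G := by
  by_contra hne
  push Not at hne
  obtain ⟨R⟩ := (inferInstance : Nonempty (Sylow r G))
  have hle : (R : Subgroup G) ≤ center G := fun g hg => hne g (isPEl_of_mem R.isPGroup' hg)
  exact R.not_dvd_index (h.trans (index_dvd_of_le hle))

theorem dvd_index_center [hr : Fact r.Prime] {v : G} (hv : IsPEl r v) (hvZ : v ∉ center G) :
    r ∣ (center G).index := by
  obtain ⟨k, hk⟩ := hv
  have h1 : ∀ k, ((v : G ⧸ center G)) ^ r ^ k = 1 → r ∣ orderOf (v : G ⧸ center G) := by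
    intro k hk
    obtain ⟨j, _, hj⟩ := (Nat.dvd_prime_pow hr.out).1 (orderOf_dvd_of_pow_eq_one hk)
    rcases j with _ | j
    · exact absurd ((QuotientGroup.eq_one_iff v).1 (orderOf_eq_one_iff.1 (by simpa using hj))) hvZ
    · exact hj ▸ dvd_pow_self r j.succ_ne_zero
  exact (h1 k (by rw [← QuotientGroup.mk_pow, hk]; rfl)).trans (orderOf_dvd_natCard _)

theorem CentEq.commute (E : CentEq G p) {y a b : G} (hy : Elt p y) (ha : a ∈ cent y)
    (hap : ¬ p ∣ orderOf a) (hb : b ∈ cent y) : a * b = b * a := by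
  by_cases haZ : a ∈ center G
  · exact (mem_center_iff.1 haZ b).symm
  · have := E.eq y a hy ⟨hap, haZ⟩ ha
    exact mem_cent.1 (this.symm ▸ hb)

/-- The elements of `r`-power order of `D`, as a subgroup. -/
def prt (r : ℕ) (D : Subgroup G) : Subgroup G := closure {g | g ∈ D ∧ IsPEl r g}

theorem prt_le (r : ℕ) (D : Subgroup G) : prt r D ≤ D := (closure_le _).2 fun _ h => h.1

theorem mem_prt_of {D : Subgroup G} {g : G} (hg : g ∈ D) (hgr : IsPEl r g) : g ∈ prt r D :=
  subset_closure ⟨hg, hgr⟩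

theorem CentEq.mem_prt (E : CentEq G p) {y : G} (hy : Elt p y) (hr : r.Prime) (hne : r ≠ p)
    {g : G} : g ∈ prt r (cent y) ↔ g ∈ cent y ∧ IsPEl r g := by
  refine ⟨fun h => ?_, fun h => mem_prt_of h.1 h.2⟩
  induction h using closure_induction with
  | mem x hx => exact hx
  | one => exact ⟨one_mem _, isPEl_one r⟩
  | mul a b _ _ ha hb =>
    exact ⟨mul_mem ha.1 hb.1,
      IsPEl.mul ha.2 hb.2 (E.commute hy ha.1 (IsPEl.not_dvd E.hp hr hne ha.2) hb.1)⟩
  | inv a _ ha => exact ⟨inv_mem ha.1, IsPEl.inv ha.2⟩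

theorem CentEq.isPGroup_prt (E : CentEq G p) {y : G} (hy : Elt p y) (hr : r.Prime) (hne : r ≠ p) :
    IsPGroup r (prt r (cent y)) := fun g =>
  ((E.mem_prt hy hr hne).1 g.2).2.imp fun _ h => Subtype.ext h

theorem CentEq.card_prt (E : CentEq G p) {y : G} (hy : Elt p y) [hr : Fact r.Prime] (hne : r ≠ p) :
    Nat.card (prt r (cent y)) = pp r (cent y) := by
  refine le_antisymm (card_le_pp (prt_le r _) (E.isPGroup_prt hy hr.out hne)) ?_
  obtain ⟨W, hW, hWr, hWc⟩ := exists_pp_subgroup r (cent y)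
  exact hWc ▸ Subgroup.card_le_of_le fun g hg => mem_prt_of (hW hg) (isPEl_of_mem hWr hg)

theorem conj_mem_cent {g y v : G} (hg : g ∈ normalizer (cent y : Set G)) (hv : v ∈ cent y) :
    g * v * g⁻¹ ∈ cent y :=
  (mem_normalizer_iff.1 hg v).1 hv

theorem conj_mem_prt {g y : G} (hg : g ∈ normalizer (cent y : Set G)) {v : G}
    (hv : v ∈ cent y) (hvr : IsPEl r v) : g * v * g⁻¹ ∈ prt r (cent y) :=
  mem_prt_of (conj_mem_cent hg hv) (IsPEl.conj' hvr g)

theorem cent_conj (g x : G) : cent (g * x * g⁻¹) = (cent x).map (MulAut.conj g).toMonoidHom := by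
  ext v
  rw [mem_cent_conj]
  constructor
  · intro h
    exact ⟨_, h, by simp [mul_assoc]⟩
  · rintro ⟨u, hu, rfl⟩
    simpa [mul_assoc] using hu

theorem mem_normalizer_of_cent_conj {g x : G} (h : cent (g * x * g⁻¹) = cent x) :
    g ∈ normalizer (cent x : Set G) := by
  refine mem_normalizer_iff.2 fun v => ?_
  conv_rhs => rw [← h, mem_cent_conj]
  simp [mul_assoc]

/-- An element normalising the `r`-part normalises the centraliser. -/
theorem CentEq.mem_normalizer (E : CentEq G p) {y w g : G} (hy : Elt p y) (hw : Elt p w)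
    (hwy : w ∈ cent y) (hg : g * w * g⁻¹ ∈ cent y) : g ∈ normalizer (cent y : Set G) := by
  have hel : Elt p (g * w * g⁻¹) := by
    refine ⟨?_, fun h => hw.2 ?_⟩
    · rw [show g * w * g⁻¹ = MulAut.conj g w from rfl, MulEquiv.orderOf_eq]
      exact hw.1
    · have h1 := mem_center_iff.1 h g⁻¹
      refine mem_center_iff.2 fun v => ?_
      have h2 := mem_center_iff.1 h (g * v * g⁻¹)
      simp only [mul_assoc, inv_mul_cancel_left] at h2
      simpa [mul_assoc] using congrArg (· * g) (mul_left_cancel h2)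
  have h1 := E.eq y w hy hw hwy
  have h2 := E.eq y _ hy hel hg
  rw [← h1] at h2 ⊢
  exact mem_normalizer_of_cent_conj h2

/-- A proper subgroup of a `p`-group is properly contained in its normaliser there. -/
theorem exists_mem_normalizer [Fact r.Prime] {R A : Subgroup G} (hR : IsPGroup r R) (hAR : A ≤ R)
    (hne : A ≠ R) : ∃ g ∈ R, g ∉ A ∧ g ∈ normalizer (A : Set G) := by
  have hA : A.subgroupOf R ≠ ⊤ := fun h => hne (le_antisymm hAR (subgroupOf_eq_top.1 h))
  obtain ⟨g, hg, hgA⟩ := SetLike.exists_of_lt (PGroup.lt_normalizer hR hA)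
  refine ⟨g, g.2, fun h => hgA h, mem_normalizer_iff.2 fun v => ⟨fun hv => ?_, fun hv => ?_⟩⟩
  · exact (mem_normalizer_iff.1 hg ⟨v, hAR hv⟩).1 hv
  · have hvR : v ∈ R := by
      have := mul_mem (mul_mem (inv_mem g.2) (hAR hv)) g.2
      simpa [mul_assoc] using this
    exact (mem_normalizer_iff.1 hg ⟨v, hvR⟩).2 hv

/-- `(x u) ^ n` when `u x = ζ x u` with `ζ` central. -/
theorem mul_pow_of_center {x u ζ : G} (hζ : ζ ∈ center G) (h : u * x = ζ * (x * u)) :
    ∀ n : ℕ, ∃ z ∈ center G, (x * u) ^ n = z * (x ^ n * u ^ n)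
  | 0 => ⟨1, one_mem _, by simp⟩
  | n + 1 => by
    obtain ⟨z, hz, hn⟩ := mul_pow_of_center hζ h n
    have hc : u * x * u⁻¹ = ζ * x := by rw [h]; group
    have h1 : u ^ n * x = ζ ^ n * x * u ^ n := by
      rw [← conj_pow_of_center hζ hc n]; group
    have h2 := mem_center_iff.1 (pow_mem hζ n) (x ^ n)
    refine ⟨z * ζ ^ n, mul_mem hz (pow_mem hζ n), ?_⟩
    calc (x * u) ^ (n + 1) = z * (x ^ n * (u ^ n * x) * u) := by rw [pow_succ, hn]; group
      _ = z * ((x ^ n * ζ ^ n) * (x * (u ^ n * u))) := by rw [h1]; group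
      _ = z * ζ ^ n * (x ^ (n + 1) * u ^ (n + 1)) := by rw [h2, pow_succ, pow_succ]; group

/-- A group of exponent `r` and order at least `r ^ 2` does not act coprimely and fixed point
freely. -/
theorem le_of_quotient_action [hr : Fact r.Prime] {R A Q S : Subgroup G} (hR : IsPGroup r R)
    (hn : R ≤ normalizer (A : Set G)) (hexp : ∀ u ∈ R, u ^ r ∈ A)
    (hcard : r * Nat.card A < Nat.card R) (hAR : A ≤ R) (hQ : R ≤ normalizer (Q : Set G))
    (hAQ : ∀ a ∈ A, ∀ m ∈ Q, a * m = m * a) (hq : q.Prime) (hne : q ≠ r) (hQq : IsPGroup q Q)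
    (hfix : ∀ u ∈ R, u ∉ A → ∀ m ∈ Q, u * m = m * u → m ∈ S) : Q ≤ S := by
  haveI := Fact.mk hq
  haveI : (A.subgroupOf R).Normal := normal_subgroupOf_of_le_normalizer hn
  obtain ⟨i, hi⟩ := IsPGroup.iff_card.1 (hR.to_quotient (A.subgroupOf R))
  have hi2 : 2 ≤ i := by
    by_contra hlt
    have h1 := card_eq_card_quotient_mul_card_subgroup (A.subgroupOf R)
    rw [hi, Nat.card_congr (subgroupOfEquivOfLe hAR).toEquiv] at h1
    have h2 : r ^ i ≤ r ^ 1 := Nat.pow_le_pow_right hr.out.pos (by omega)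
    rw [pow_one] at h2
    exact absurd (h1 ▸ Nat.mul_le_mul_right _ h2) (not_le.2 hcard)
  obtain ⟨E, hE⟩ := Sylow.exists_subgroup_card_pow_prime r (hi ▸ pow_dvd_pow r hi2)
  letI : CommGroup E :=
    { (inferInstance : Group E) with mul_comm := IsPGroup.commutative_of_card_eq_prime_sq hE }
  let φ : R →* MulAut Q := (Subgroup.normalizerMonoidHom Q).comp (inclusion hQ)
  have hφ : ∀ (u : R) (m : Q), ((φ u m : Q) : G) = u * m * (u : G)⁻¹ := fun u m => rfl
  have hker : A.subgroupOf R ≤ φ.ker := fun u hu => by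
    ext m
    rw [hφ, hAQ (u : G) (mem_subgroupOf.1 hu) (m : G) m.2, mul_inv_cancel_right]; rfl
  let ψ : E →* MulAut Q := (QuotientGroup.lift _ φ hker).comp E.subtype
  have hexpE : ∀ e : E, e ^ r = 1 := fun e => by
    obtain ⟨u, hu⟩ := QuotientGroup.mk_surjective (e : R ⧸ A.subgroupOf R)
    refine Subtype.ext ?_
    rw [SubmonoidClass.coe_pow, ← hu, ← QuotientGroup.mk_pow]
    exact (QuotientGroup.eq_one_iff _).2 (mem_subgroupOf.2 (hexp u u.2))
  have hcyc : ¬ IsCyclic E := fun hc => by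
    obtain ⟨g, hg⟩ := isCyclic_iff_exists_orderOf_eq_natCard.1 hc
    have := Nat.le_of_dvd hr.out.pos (hg ▸ orderOf_dvd_of_pow_eq_one (hexpE g))
    rw [hE] at this
    nlinarith [hr.out.two_le]
  have hcop : (Nat.card E).Coprime (Nat.card Q) := by
    obtain ⟨j, hj⟩ := IsPGroup.iff_card.1 hQq
    rw [hE, hj]
    exact ((Nat.coprime_primes hr.out hq).2 hne.symm).pow 2 j
  have := Coprime.eq_top_of_forall_fixedBy_le ψ hcyc hcop (S := S.subgroupOf Q) fun e he m hm => by
    obtain ⟨u, hu⟩ := QuotientGroup.mk_surjective (e : R ⧸ A.subgroupOf R)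
    refine mem_subgroupOf.2 (hfix u u.2 (fun huA => he (Subtype.ext ?_)) m m.2 ?_)
    · rw [← hu]; exact (QuotientGroup.eq_one_iff u).2 huA
    · have h1 : φ u m = m :=
        (congrArg (fun z => QuotientGroup.lift _ φ hker z m) hu).trans hm
      have h2 := congrArg Subtype.val h1
      rw [hφ, mul_inv_eq_iff_eq_mul] at h2
      exact h2
  exact subgroupOf_eq_top.1 this

end Cfsg.Agent.ClassSize.ThreeSizes
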