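import Cfsg.Agent.Lib.ClassSize.ThreeSizes.Parts

/-!
# Sylow subgroups and centralisers of `p`-regular elements

In each Sylow `r`-subgroup `R` there is a base element `x`: `R` normalises `D₀ = cent x` and the
`r`-part of `D₀` has index at most `r` in `R`. A centraliser with large `r`-part is conjugate to
`D₀`; two primes cannot both have small `r`-part.
-/

set_option autoImplicit false
set_option linter.unusedSectionVars false
set_option linter.style.haveILetI false

namespace Cfsg.Agent.ClassSize.ThreeSizes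

open Subgroup Cfsg.Agent.ClassSize.CoprimeTop Cfsg.Agent.ClassSize.TwoSteps
open scoped commutatorElement Pointwise

variable {G : Type*} [Group G] [Finite G] {p r q : ℕ}

/-- `CentEq`, and every centraliser involves at least two primes besides `p` modulo the centre. -/
structure Rich (G : Type*) [Group G] (p : ℕ) : Prop extends CentEq G p where
  rich : ∀ y : G, Elt p y → ∀ r : ℕ, ∃ q : ℕ, q.Prime ∧ q ≠ r ∧ q ≠ p ∧
    ∃ m ∈ cent y, IsPEl q m ∧ m ∉ center G

/-- An element of `A` of order `r` modulo the centre, fixed by `R` modulo the centre. -/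
theorem exists_base [hr : Fact r.Prime] {R A : Subgroup G} (hR : IsPGroup r R) (hAR : A ≤ R)
    (hn : R ≤ normalizer (A : Set G)) (hA : ¬ A ≤ center G) :
    ∃ w ∈ A, w ∉ center G ∧ w ^ r ∈ center G ∧ ∀ g ∈ R, ⁅g, w⁆ ∈ center G := by
  obtain ⟨v, hvA, hvZ, hv⟩ := MetanilpotentPrim.exists_commutator_mem R A (center G) hR hAR
    (fun x hx w hw => (mem_normalizer_iff.1 (hn hx) w).1 hw) hA
  obtain ⟨k, hk⟩ := isPEl_of_mem hR (hAR hvA)
  have hex : ∃ i, v ^ r ^ i ∈ center G := ⟨k, by rw [hk]; exact one_mem _⟩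
  classical
  set i := Nat.find hex with hi
  have hi0 : i ≠ 0 := fun h0 => hvZ (by
    have h1 := Nat.find_spec hex
    rw [← hi, h0] at h1
    simpa using h1)
  obtain ⟨j, hj⟩ := Nat.exists_eq_succ_of_ne_zero hi0
  refine ⟨v ^ r ^ j, pow_mem hvA _, Nat.find_min hex (by omega), ?_, fun g hg => ?_⟩
  · rw [← pow_mul, ← pow_succ, ← Nat.succ_eq_add_one, ← hj]
    exact Nat.find_spec hex
  · have h1 : ⁅g, v⁆ * v = g * v * g⁻¹ := by simp [commutatorElement_def]
    have hc : Commute ⁅g, v⁆ v := (mem_center_iff.1 (hv g hg) v).symm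
    rw [commutatorElement_def, ← conj_pow, ← h1, hc.mul_pow, mul_inv_cancel_right]
    exact pow_mem (hv g hg) _

/-- A base element of a Sylow subgroup. -/
structure Base (R : Sylow r G) (x : G) : Prop where
  mem : x ∈ (R : Subgroup G)
  notMem : x ∉ center G
  pow : x ^ r ∈ center G
  comm : ∀ g ∈ (R : Subgroup G), ⁅g, x⁆ ∈ center G

theorem exists_isBase [hr : Fact r.Prime] (R : Sylow r G) (h : r ∣ (center G).index) :
    ∃ x, Base R x := by
  obtain ⟨x, hx, h1, h2, h3⟩ := exists_base R.isPGroup' le_rfl le_normalizer fun hle =>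
    R.not_dvd_index (h.trans (index_dvd_of_le hle))
  exact ⟨x, hx, h1, h2, h3⟩

theorem Base.le_normalizer [Fact r.Prime] {R : Sylow r G} {x : G} (B : Base R x) :
    (R : Subgroup G) ≤ normalizer (cent x : Set G) := fun g hg =>
  mem_normalizer_of_cent_conj (by
    rw [show g * x * g⁻¹ = ⁅g, x⁆ * x by simp [commutatorElement_def],
      cent_mul_center (B.comm g hg)])

theorem Base.elt [hr : Fact r.Prime] (hp : p.Prime) (hne : r ≠ p) {R : Sylow r G} {x : G}
    (B : Base R x) : Elt p x :=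
  elt_of_pEl hp hr.out hne (isPEl_of_mem R.isPGroup' B.mem) B.notMem

theorem normalizer_le_prt {y : G} :
    normalizer (cent y : Set G) ≤ normalizer (prt r (cent y) : Set G) := by
  have h1 : ∀ g ∈ normalizer (cent y : Set G), ∀ v ∈ prt r (cent y),
      g * v * g⁻¹ ∈ prt r (cent y) := by
    intro g hg v hv
    induction hv using closure_induction with
    | mem x hx => exact conj_mem_prt hg hx.1 hx.2
    | one => simp
    | mul a b _ _ ha hb => simpa [mul_assoc] using mul_mem ha hb
    | inv a _ ha => simpa [mul_assoc] using inv_mem ha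
  intro g hg
  refine mem_normalizer_iff.2 fun v => ⟨h1 g hg v, fun hv => ?_⟩
  simpa [mul_assoc] using h1 _ (inv_mem hg) _ hv

theorem CentEq.prt_le_sylow (E : CentEq G p) [hr : Fact r.Prime] (hne : r ≠ p) (R : Sylow r G)
    {y : G} (hy : Elt p y) (hn : (R : Subgroup G) ≤ normalizer (cent y : Set G)) :
    prt r (cent y) ≤ R :=
  sup_eq_left.1 (R.is_maximal' (R.isPGroup'.to_sup_of_normal_right'
    (E.isPGroup_prt hy hr.out hne) (hn.trans normalizer_le_prt)) le_sup_left)

/-- Outside the `r`-part of a base centraliser the `r`-th powers are central. -/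
theorem CentEq.pow_mem_center (E : CentEq G p) [hr : Fact r.Prime] (hne : r ≠ p) {R : Sylow r G}
    {x : G} (B : Base R x) {u : G} (hu : u ∈ (R : Subgroup G)) (hux : u ∉ cent x) :
    u ^ r ∈ center G := by
  by_contra hur
  have hrel : ∀ v ∈ (R : Subgroup G), v ∉ center G → Elt p v := fun v hv =>
    elt_of_pEl E.hp hr.out hne (isPEl_of_mem R.isPGroup' hv)
  have heq : ∀ v ∈ (R : Subgroup G), v ^ r ∉ center G → cent v = cent (v ^ r) := fun v hv hvr =>
    (E.eq _ _ (hrel v hv fun h => hvr (pow_mem h r)) (hrel _ (pow_mem hv r) hvr)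
      (mem_cent.2 ((Commute.self_pow v r).eq))).symm
  have hζ : ⁅u, x⁆ ∈ center G := B.comm u hu
  have hux' : u * x = ⁅u, x⁆ * (x * u) := by
    rw [commutatorElement_def]; group
  obtain ⟨z, hz, hpow⟩ := mul_pow_of_center hζ hux' r
  have hz' : z * x ^ r ∈ center G := mul_mem hz B.pow
  rw [← mul_assoc] at hpow
  have hxu : (x * u) ^ r ∉ center G := fun h => hur (by
    rw [hpow] at h
    exact ((center G).mul_mem_cancel_left hz').1 h)
  have h1 := heq _ (mul_mem B.mem hu) hxu
  rw [hpow, cent_mul_center hz', ← heq u hu hur] at h1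
  have h2 : x * u ∈ cent u := h1 ▸ self_mem_cent (x * u)
  have h3 := mul_mem h2 (inv_mem (self_mem_cent u))
  rw [mul_inv_cancel_right] at h3
  exact hux (cent_comm.1 h3)

/-- The `r`-part of a base centraliser has index at most `r` in the Sylow subgroup. -/
theorem Rich.card_le (E : Rich G p) [hr : Fact r.Prime] (hne : r ≠ p) {R : Sylow r G}
    {x : G} (B : Base R x) : Nat.card (R : Subgroup G) ≤ r * pp r (cent x) := by
  have hxE := B.elt E.hp hne
  obtain ⟨q, hq, hqr, hqp, m, hm, hmq, hmZ⟩ := E.rich x hxE r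
  by_contra hlt
  rw [not_le, ← E.card_prt hxE hne] at hlt
  have hin : ∀ u ∈ (R : Subgroup G), u ∈ cent x → u ∈ prt r (cent x) := fun u hu hc =>
    mem_prt_of hc (isPEl_of_mem R.isPGroup' hu)
  have hle : prt q (cent x) ≤ center G := by
    refine le_of_quotient_action R.isPGroup' (B.le_normalizer.trans normalizer_le_prt) ?_ hlt
      (E.prt_le_sylow hne R hxE B.le_normalizer) (B.le_normalizer.trans normalizer_le_prt) ?_ hq hqr
      (E.isPGroup_prt hxE hq hqp) ?_
    · intro u hu
      by_cases huA : u ∈ cent x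
      · exact pow_mem (hin u hu huA) r
      · exact hin _ (pow_mem hu r) (center_le_cent x (E.pow_mem_center hne B hu huA))
    · intro a ha b hb
      obtain ⟨ha1, ha2⟩ := (E.mem_prt hxE hr.out hne).1 ha
      exact E.commute hxE ha1 (IsPEl.not_dvd E.hp hr.out hne ha2) (prt_le _ _ hb)
    · intro u hu huA b hb hub
      by_contra hbZ
      obtain ⟨hb1, hb2⟩ := (E.mem_prt hxE hq hqp).1 hb
      have h := E.eq x b hxE (elt_of_pEl E.hp hq hqp hb2 hbZ) hb1
      exact huA (hin u hu (h ▸ mem_cent.2 hub.symm))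
  exact hmZ (hle (mem_prt_of hm hmq))

/-- A centraliser with large `r`-part is the base centraliser. -/
def Big (r : ℕ) (y : G) : Prop :=
  r * pp r (center G) < pp r (cent y) ∨ pp r (cent y) = r ^ (Nat.card G).factorization r

theorem CentEq.inf_prt_le (E : CentEq G p) (hr : r.Prime) (hne : r ≠ p) {x y : G} (hx : Elt p x)
    (hy : Elt p y) (h : cent x ≠ cent y) : prt r (cent x) ⊓ prt r (cent y) ≤ center G := by
  intro v hv
  by_contra hvZ
  obtain ⟨h1, h2⟩ := (E.mem_prt hx hr hne).1 hv.1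
  have hv' := elt_of_pEl E.hp hr hne h2 hvZ
  exact h ((E.eq x v hx hv' h1).symm.trans (E.eq y v hy hv' (prt_le _ _ hv.2)))

theorem Rich.card_le_of_ne (E : Rich G p) [hr : Fact r.Prime] (hne : r ≠ p) {R : Sylow r G}
    {x : G} (B : Base R x) {y : G} (hy : Elt p y) (hyR : prt r (cent y) ≤ R)
    (h : cent y ≠ cent x) : pp r (cent y) ≤ r * pp r (center G) := by
  have hxE := B.elt E.hp hne
  set A := prt r (cent y) with hA
  set A₀ := prt r (cent x) with hA₀
  have hA₀R : A₀ ≤ R := E.prt_le_sylow hne R hxE B.le_normalizer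
  have h1 : Nat.card A₀ * A₀.relIndex R = Nat.card (R : Subgroup G) := by
    rw [relIndex, ← Nat.card_congr (subgroupOfEquivOfLe hA₀R).toEquiv, card_mul_index]
  have h2 : A₀.relIndex R ≤ r := by
    refine Nat.le_of_mul_le_mul_left ?_ (Nat.card_pos (α := A₀))
    rw [h1, E.card_prt hxE hne, mul_comm]
    exact E.card_le hne B
  have h3 : Nat.card ↥(A ⊓ A₀) * A₀.relIndex A = Nat.card A := by
    rw [← inf_relIndex_left, relIndex,
      ← Nat.card_congr (subgroupOfEquivOfLe (inf_le_left : A ⊓ A₀ ≤ A)).toEquiv, card_mul_index]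
  have h4 : A₀.relIndex A ≤ A₀.relIndex R := relIndex_le_of_le_right hyR index_ne_zero_of_finite
  have h5 : Nat.card ↥(A ⊓ A₀) ≤ pp r (center G) :=
    card_le_pp (E.inf_prt_le hr.out hne hy hxE h) (R.isPGroup'.to_le (inf_le_left.trans hyR))
  rw [← E.card_prt hy hne, ← hA, ← h3, mul_comm r]
  exact Nat.mul_le_mul h5 (h4.trans h2)

theorem Rich.cent_eq_base (E : Rich G p) [hr : Fact r.Prime] (hne : r ≠ p) {R : Sylow r G}
    {x : G} (B : Base R x) {y : G} (hy : Elt p y) (hyR : prt r (cent y) ≤ R) (hbig : Big r y) :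
    cent y = cent x := by
  by_contra h
  rcases hbig with hb | hb
  · exact absurd (E.card_le_of_ne hne B hy hyR h) (not_le.2 hb)
  · have hfull : prt r (cent y) = R :=
      eq_of_le_of_card_ge hyR (by rw [E.card_prt hy hne, hb, sylow_card])
    exact h (E.eq y x hy (B.elt E.hp hne) (prt_le r _ (hfull.symm ▸ B.mem))).symm

/-- Centralisers with large `r`-part are conjugate. -/
theorem Rich.exists_conj (E : Rich G p) [hr : Fact r.Prime] (hne : r ≠ p)
    {y₁ y₂ : G} (h₁ : Elt p y₁) (h₂ : Elt p y₂) (hb₁ : Big r y₁) (hb₂ : Big r y₂)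
    (hdvd : r ∣ (center G).index) : ∃ g : G, cent (g * y₁ * g⁻¹) = cent y₂ := by
  obtain ⟨R, hR⟩ := (E.isPGroup_prt h₂ hr.out hne).exists_le_sylow
  obtain ⟨R₁, hR₁⟩ := (E.isPGroup_prt h₁ hr.out hne).exists_le_sylow
  obtain ⟨x, B⟩ := exists_isBase R hdvd
  obtain ⟨g, hg⟩ := MulAction.exists_smul_eq G R₁ R
  refine ⟨g, ?_⟩
  have he : Elt p (g * y₁ * g⁻¹) := by
    refine ⟨?_, fun h => h₁.2 ?_⟩
    · rw [← MulAut.conj_apply, MulEquiv.orderOf_eq]
      exact h₁.1
    · simpa [mul_assoc] using Normal.conj_mem inferInstance _ h g⁻¹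
  have hpp : pp r (cent (g * y₁ * g⁻¹)) = pp r (cent y₁) := by
    rw [pp, pp, cent_conj, card_map_of_injective (MulAut.conj g).injective]
  rw [E.cent_eq_base hne B h₂ hR hb₂]
  refine E.cent_eq_base hne B he ?_ (by unfold Big at hb₁ ⊢; rwa [hpp])
  refine (closure_le _).2 fun v hv => ?_
  have h3 : g⁻¹ * v * g ∈ (R₁ : Subgroup G) := hR₁ (mem_prt_of (mem_cent_conj.1 hv.1) (by
    simpa using IsPEl.conj' hv.2 g⁻¹))
  rw [← hg, SetLike.mem_coe, Sylow.coe_subgroup_smul]
  exact Coprime.mem_conj_smul_iff.2 h3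

/-- A normalising `r`-element outside a centraliser whose `r`-part is not Sylow. -/
theorem CentEq.exists_normalizing (E : CentEq G p) [hr : Fact r.Prime] (hne : r ≠ p) {y : G}
    (hy : Elt p y) (hlt : pp r (cent y) ≠ r ^ (Nat.card G).factorization r)
    (hzy : pp r (center G) < pp r (cent y)) :
    ∃ g : G, IsPEl r g ∧ g ∈ normalizer (cent y : Set G) ∧ g ∉ cent y := by
  obtain ⟨R, hR⟩ := (E.isPGroup_prt hy hr.out hne).exists_le_sylow
  obtain ⟨g, hgR, hgA, hgn⟩ := exists_mem_normalizer R.isPGroup' hR fun h => hlt (by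
    rw [← E.card_prt hy hne, h, sylow_card])
  obtain ⟨w, hw, hwr, hwZ⟩ := exists_pEl_of_lt hzy
  refine ⟨g, isPEl_of_mem R.isPGroup' hgR, ?_, fun h => hgA (mem_prt_of h (isPEl_of_mem R.isPGroup' hgR))⟩
  exact E.mem_normalizer hy (elt_of_pEl E.hp hr.out hne hwr hwZ) hw
    (prt_le _ _ ((mem_normalizer_iff.1 hgn w).1 (mem_prt_of hw hwr)))

/-- If the `q`-part has order `q` modulo the centre, a normalising `r`-element forces `r ∣ q - 1`. -/
theorem CentEq.dvd_sub_one (E : CentEq G p) [hr : Fact r.Prime] [hq : Fact q.Prime] (hqr : q ≠ r)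
    (hqp : q ≠ p) {y g : G} (hy : Elt p y) (hg : IsPEl r g)
    (hgn : g ∈ normalizer (cent y : Set G)) (hgy : g ∉ cent y)
    (hsmall : pp q (cent y) = q * pp q (center G)) : r ∣ q - 1 := by
  set Q := prt q (cent y) with hQ
  have hK : zpowers g ≤ normalizer (Q : Set G) :=
    zpowers_le.2 (normalizer_le_prt hgn)
  letI : MulAction (zpowers g) Q :=
    MulAction.compHom Q ((Subgroup.normalizerMonoidHom Q).comp (inclusion hK))
  have hsmul : ∀ (k : zpowers g) (m : Q), ((k • m : Q) : G) = k * m * (k : G)⁻¹ := fun _ _ => rfl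
  have hfix : Nat.card (MulAction.fixedPoints (zpowers g) Q) = pp q (center G) := by
    obtain ⟨W, hW, hWq, hWc⟩ := exists_pp_subgroup q (center G)
    have hWQ : W ≤ Q := fun w hw =>
      mem_prt_of (center_le_cent y (hW hw)) (isPEl_of_mem hWq hw)
    have hQg : IsPGroup q Q := E.isPGroup_prt hy hq.out hqp
    refine le_antisymm ?_ ?_
    · refine le_trans ?_ (card_le_pp (inf_le_right : Q ⊓ center G ≤ center G) hQg.to_inf_left)
      refine Nat.card_le_card_of_injective (fun m => ⟨(m.1 : G), m.1.2, ?_⟩) fun a b h =>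
        Subtype.ext (Subtype.ext (congrArg (fun t : ↥(Q ⊓ center G) => (t : G)) h))
      by_contra hmZ
      obtain ⟨h1, h2⟩ := (E.mem_prt hy hq.out hqp).1 m.1.2
      have h3 := congrArg Subtype.val (m.2 ⟨g, mem_zpowers g⟩)
      rw [hsmul] at h3
      refine hgy (E.eq y _ hy (elt_of_pEl E.hp hq.out hqp h2 hmZ) h1 ▸ mem_cent.2 ?_)
      exact (mul_inv_eq_iff_eq_mul.1 h3).symm
    · rw [← hWc]
      refine Nat.card_le_card_of_injective (fun w => ⟨⟨w, hWQ w.2⟩, fun k => Subtype.ext ?_⟩)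
        fun a b h => Subtype.ext (congrArg (fun t : MulAction.fixedPoints (zpowers g) Q =>
          ((t.1 : Q) : G)) h)
      rw [hsmul]
      simp only
      rw [mem_center_iff.1 (hW w.2), mul_inv_cancel_right]
  have h1 := hg.isPGroup_zpowers.card_modEq_card_fixedPoints (α := Q)
  rw [hfix, E.card_prt hy hqp, hsmall] at h1
  have h2 : r ∣ q * pp q (center G) - pp q (center G) :=
    (Nat.modEq_iff_dvd' (Nat.le_mul_of_pos_left _ hq.out.pos)).1 h1.symm
  rw [← Nat.sub_one_mul] at h2
  rcases hr.out.dvd_mul.1 h2 with h | h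
  · exact h
  · exact absurd ((Nat.prime_dvd_prime_iff_eq hr.out hq.out).1 (hr.out.dvd_of_dvd_pow h)) hqr.symm

end Cfsg.Agent.ClassSize.ThreeSizes
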