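import Cfsg.Agent.Lib.ClassSize.ThreeSizes.Sylow
import Cfsg.Agent.Lib.Frobenius.FixedPointFree

/-!
# The quotient `N(D) / D` for a centraliser `D` of a `p`-regular element

`Reg G p`: `CentEq`, constant parts of the centralisers at the primes other than `p`, at least two
such primes. `Weyl y = N(cent y) / cent y` has no square of a prime other than `p` in its order;
`p'`-subgroups at a prime `q` act fixed point freely on the `q`-part of `cent y` modulo the centre.
-/

set_option autoImplicit false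
set_option linter.unusedSectionVars false
set_option linter.style.haveILetI false

namespace Cfsg.Agent.ClassSize.ThreeSizes

open Subgroup Cfsg.Agent.ClassSize.CoprimeTop Cfsg.Agent.ClassSize.TwoSteps
open scoped commutatorElement

universe u₁

variable {G : Type u₁} [Group G] [Finite G] {p r q : ℕ}

/-- The hypothesis of the main lemma. -/
structure Reg (G : Type*) [Group G] (p : ℕ) : Prop extends CentEq G p where
  card : ∀ y z : G, Elt p y → Elt p z → ∀ r : ℕ, r.Prime → r ≠ p → pp r (cent y) = pp r (cent z)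
  two : ∃ t q : ℕ, t.Prime ∧ q.Prime ∧ t ≠ q ∧ t ≠ p ∧ q ≠ p ∧
    t ∣ (center G).index ∧ q ∣ (center G).index

/-- The order of a Sylow `r`-subgroup. -/
noncomputable def full (G : Type*) [Group G] (r : ℕ) : ℕ := r ^ (Nat.card G).factorization r

theorem pp_le_full [hr : Fact r.Prime] (H : Subgroup G) : pp r H ≤ full G r :=
  Nat.pow_le_pow_right hr.out.pos
    ((Nat.factorization_le_iff_dvd Nat.card_pos.ne' Nat.card_pos.ne').2 (card_subgroup_dvd_card H) r)

theorem dvd_index_of_pp_ne [hr : Fact r.Prime] (h : pp r (center G) ≠ full G r) :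
    r ∣ (center G).index := by
  by_contra hd
  refine h (congrArg (r ^ ·) ?_)
  have h1 := factorization_index (p := r) (center G)
  rw [Nat.factorization_eq_zero_of_not_dvd hd, add_zero] at h1
  exact h1

theorem exists_good (E : Reg G p) (r : ℕ) :
    ∃ q : ℕ, q.Prime ∧ q ≠ r ∧ q ≠ p ∧ q ∣ (center G).index := by
  obtain ⟨t, q, ht, hq, htq, htp, hqp, htd, hqd⟩ := E.two
  rcases eq_or_ne q r with h | h
  · exact ⟨t, ht, h ▸ htq, htp, htd⟩
  · exact ⟨q, hq, h, hqp, hqd⟩

theorem Reg.pp_center_lt (E : Reg G p) [hr : Fact r.Prime] (hne : r ≠ p)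
    (hd : r ∣ (center G).index) {y : G} (hy : Elt p y) : pp r (center G) < pp r (cent y) := by
  obtain ⟨v, hv, hvZ⟩ := exists_pEl_of_dvd hd
  rw [E.card y v hy (elt_of_pEl E.hp hr.out hne hv hvZ) r hr.out hne]
  exact pp_center_lt_of_notMem (center_le_cent v) hv (self_mem_cent v) hvZ

theorem Reg.toRich (E : Reg G p) : Rich G p := by
  refine ⟨E.toCentEq, fun y hy r => ?_⟩
  obtain ⟨q, hq, hqr, hqp, hqd⟩ := exists_good E r
  haveI := Fact.mk hq
  exact ⟨q, hq, hqr, hqp, exists_pEl_of_lt (E.pp_center_lt hqp hqd hy)⟩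

theorem Reg.exists_noncentral_prt (E : Reg G p) [hr : Fact r.Prime] (hne : r ≠ p)
    (hd : r ∣ (center G).index) {y : G} (hy : Elt p y) :
    ∃ w ∈ prt r (cent y), Elt p w ∧ w ∈ cent y ∧ IsPEl r w ∧ cent w = cent y := by
  obtain ⟨w, hw, hwr, hwZ⟩ := exists_pEl_of_lt (E.pp_center_lt hne hd hy)
  have h := elt_of_pEl E.hp hr.out hne hwr hwZ
  exact ⟨w, mem_prt_of hw hwr, h, hw, hwr, E.eq y w hy h hw⟩

theorem Reg.normalizer_prt_le (E : Reg G p) [hr : Fact r.Prime] (hne : r ≠ p)
    (hd : r ∣ (center G).index) {y : G} (hy : Elt p y) :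
    normalizer (prt r (cent y) : Set G) ≤ normalizer (cent y : Set G) := fun g hg => by
  obtain ⟨w, hw, hwE, hwy, -, -⟩ := E.exists_noncentral_prt hne hd hy
  exact E.mem_normalizer hy hwE hwy (prt_le _ _ ((mem_normalizer_iff.1 hg w).1 hw))

theorem Reg.full_le (E : Reg G p) [hr : Fact r.Prime] (hne : r ≠ p) {y : G} (hy : Elt p y) :
    full G r ≤ r * pp r (cent y) := by
  by_cases hd : r ∣ (center G).index
  · obtain ⟨R⟩ := (inferInstance : Nonempty (Sylow r G))
    obtain ⟨x, B⟩ := exists_isBase R hd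
    rw [E.card y x hy (B.elt E.hp hne) r hr.out hne, full, ← sylow_card R]
    exact E.toRich.card_le hne B
  · have h1 : pp r (center G) = full G r := by
      by_contra h
      exact hd (dvd_index_of_pp_ne h)
    calc full G r ≤ pp r (cent y) := h1 ▸ pp_mono (center_le_cent y)
      _ ≤ r * pp r (cent y) := Nat.le_mul_of_pos_left _ hr.out.pos

/-- `N(D) / D`. -/
abbrev Weyl (y : G) : Type u₁ :=
  normalizer (cent y : Set G) ⧸ (cent y).subgroupOf (normalizer (cent y : Set G))

theorem card_weyl_mul (y : G) :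
    Nat.card (Weyl y) * Nat.card (cent y) = Nat.card (normalizer (cent y : Set G)) := by
  rw [← Nat.card_congr (subgroupOfEquivOfLe (le_normalizer (H := cent y))).toEquiv]
  exact (card_eq_card_quotient_mul_card_subgroup _).symm

theorem Reg.not_sq_dvd (E : Reg G p) [hr : Fact r.Prime] (hne : r ≠ p) {y : G} (hy : Elt p y) :
    ¬ r ^ 2 ∣ Nat.card (Weyl y) := by
  intro h
  have h1 : r ^ 2 * pp r (cent y) ∣ Nat.card G :=
    ((card_weyl_mul y) ▸ mul_dvd_mul h (pp_dvd r (cent y))).trans (card_subgroup_dvd_card _)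
  rw [pp, ← pow_add, hr.out.pow_dvd_iff_le_factorization Nat.card_pos.ne'] at h1
  have h2 := E.full_le hne hy
  rw [full, pp, ← pow_succ', Nat.pow_le_pow_iff_right hr.out.one_lt] at h2
  omega

/-- A prime other than `p` in `|N(D) : D|` is exceptional. -/
theorem Reg.pp_ne_full [hr : Fact r.Prime] {y : G} (h : r ∣ Nat.card (Weyl y)) :
    pp r (cent y) ≠ full G r := by
  intro hf
  have h1 : r * pp r (cent y) ∣ Nat.card G :=
    ((card_weyl_mul y) ▸ mul_dvd_mul h (pp_dvd r (cent y))).trans (card_subgroup_dvd_card _)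
  rw [hf, full, ← pow_succ', hr.out.pow_dvd_iff_le_factorization Nat.card_pos.ne'] at h1
  omega

theorem mk_eq_one {y : G} {g : normalizer (cent y : Set G)} :
    (g : Weyl y) = 1 ↔ (g : G) ∈ cent y := by
  rw [QuotientGroup.eq_one_iff, mem_subgroupOf]

/-- A group of `p'`-power order coprime to `q` in `Weyl y` acts fixed point freely. -/
theorem Reg.exists_fpf (E : Reg G p) [hq : Fact q.Prime] (hqp : q ≠ p)
    (hd : q ∣ (center G).index) {y : G} (hy : Elt p y) (A : Subgroup (Weyl y))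
    (hA : q.Coprime (Nat.card A)) :
    ∃ (V : Type u₁) (_ : CommGroup V) (_ : Finite V) (_ : Nontrivial V) (φ : A →* MulAut V),
      Frobenius.Fpf.IsFpf φ := by
  set Q := prt q (cent y) with hQ
  set N := normalizer (cent y : Set G) with hN
  set S := (center G).subgroupOf Q with hS
  haveI : S.Normal := inferInstance
  let c : CommGroup (Q ⧸ S) :=
    { (inferInstance : Group (Q ⧸ S)) with
      mul_comm := fun a b => by
        induction a using QuotientGroup.induction_on with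
        | H a =>
          induction b using QuotientGroup.induction_on with
          | H b =>
            obtain ⟨ha1, ha2⟩ := (E.mem_prt hy hq.out hqp).1 a.2
            obtain ⟨hb1, -⟩ := (E.mem_prt hy hq.out hqp).1 b.2
            have hab : (a * b : Q) = b * a :=
              Subtype.ext (E.commute hy ha1 (IsPEl.not_dvd E.hp hq.out hqp ha2) hb1)
            exact congrArg (fun m : Q => (m : Q ⧸ S)) hab }
  let ρ : N →* MulAut Q := (Subgroup.normalizerMonoidHom Q).comp (inclusion normalizer_le_prt)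
  have hρ : ∀ (g : N) (m : Q), ((ρ g m : Q) : G) = g * m * (g : G)⁻¹ := fun g m => rfl
  have hmap : ∀ g : N, S.map (ρ g : Q →* Q) = S := fun g => by
    ext m
    constructor
    · rintro ⟨m', hm', rfl⟩
      exact mem_subgroupOf.2 (show ((ρ g m' : Q) : G) ∈ center G by
        rw [hρ]; exact Normal.conj_mem inferInstance _ (mem_subgroupOf.1 hm') _)
    · intro hm
      refine ⟨m, hm, Subtype.ext ?_⟩
      show ((ρ g m : Q) : G) = m
      rw [hρ, mem_center_iff.1 (mem_subgroupOf.1 hm), mul_inv_cancel_right]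
  let θ : N →* MulAut (Q ⧸ S) :=
    { toFun := fun g => QuotientGroup.congr S S (ρ g) (hmap g)
      map_one' := by
        ext a
        induction a using QuotientGroup.induction_on with
        | H a => exact congrArg _ (show ρ 1 a = a by rw [map_one]; rfl)
      map_mul' := fun g h => by
        ext a
        induction a using QuotientGroup.induction_on with
        | H a => exact congrArg _ (show ρ (g * h) a = ρ g (ρ h a) by rw [map_mul]; rfl) }
  have hker : (cent y).subgroupOf N ≤ θ.ker := fun g hg => by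
    ext a
    induction a using QuotientGroup.induction_on with
    | H a =>
      refine congrArg _ (Subtype.ext ?_ : ρ g a = a)
      obtain ⟨ha1, ha2⟩ := (E.mem_prt hy hq.out hqp).1 a.2
      rw [hρ, ← E.commute hy ha1 (IsPEl.not_dvd E.hp hq.out hqp ha2) (mem_subgroupOf.1 hg),
        mul_inv_cancel_right]
  obtain ⟨w, hw, hwE, -, -, -⟩ := E.exists_noncentral_prt hqp hd hy
  haveI : Nontrivial (Q ⧸ S) := ⟨⟨((⟨w, hw⟩ : Q) : Q ⧸ S), 1, fun h =>
    hwE.2 (mem_subgroupOf.1 ((QuotientGroup.eq_one_iff _).1 h))⟩⟩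
  refine ⟨Q ⧸ S, c, inferInstance, inferInstance,
    (QuotientGroup.lift _ θ hker).comp A.subtype, ?_⟩
  intro e he a
  induction a using QuotientGroup.induction_on with
  | H a =>
    intro hfix
    obtain ⟨g, hg⟩ := QuotientGroup.mk_surjective (e : Weyl y)
    have hfix' : ((ρ g a : Q) : Q ⧸ S) = (a : Q ⧸ S) :=
      (congrArg (fun z => QuotientGroup.lift _ θ hker z (a : Q ⧸ S)) hg).trans hfix
    refine (QuotientGroup.eq_one_iff a).2 (mem_subgroupOf.2 ?_)
    by_contra haZ
    obtain ⟨ha1, ha2⟩ := (E.mem_prt hy hq.out hqp).1 a.2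
    have hη : ((g : G) * a * (g : G)⁻¹) * (a : G)⁻¹ ∈ center G := by
      have h1 := (QuotientGroup.eq_one_iff _).1
        (show (((ρ g a) * a⁻¹ : Q) : Q ⧸ S) = 1 by
          rw [QuotientGroup.mk_mul, QuotientGroup.mk_inv, hfix', mul_inv_cancel])
      exact mem_subgroupOf.1 h1
    have hηq : IsPEl q (((g : G) * a * (g : G)⁻¹) * (a : G)⁻¹) :=
      IsPEl.mul (IsPEl.conj' ha2 _) (IsPEl.inv ha2)
        (E.commute hy (conj_mem_cent g.2 ha1)
          (IsPEl.not_dvd E.hp hq.out hqp (IsPEl.conj' ha2 _)) (inv_mem ha1))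
    have hpow : (g : G) ^ Nat.card A ∈ cent (a : G) := by
      rw [E.eq y a hy (elt_of_pEl E.hp hq.out hqp ha2 haZ) ha1]
      refine (mk_eq_one (g := g ^ Nat.card A)).1 ?_
      rw [QuotientGroup.mk_pow, hg, ← SubmonoidClass.coe_pow, pow_card_eq_one', Subgroup.coe_one]
    have h2 := mem_cent_of_pow hη (inv_mul_cancel_right _ _).symm hηq hA hpow
    rw [E.eq y a hy (elt_of_pEl E.hp hq.out hqp ha2 haZ) ha1] at h2
    exact he (Subtype.ext (hg ▸ (mk_eq_one (g := g)).2 h2))

/-- An element of order two modulo `D` inverts each `q`-part modulo the centre. -/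
theorem Reg.inv_mod_center (E : Reg G p) (hq : q.Prime) (hqp : q ≠ p) {y g : G} (hy : Elt p y)
    (hg : g ∈ normalizer (cent y : Set G)) (hg2 : g ^ 2 ∈ cent y) (hgy : g ∉ cent y) {m : G}
    (hm : m ∈ prt q (cent y)) : g * m * g⁻¹ * m ∈ center G := by
  obtain ⟨hm1, hm2⟩ := (E.mem_prt hy hq hqp).1 hm
  have hk : IsPEl q (g * m * g⁻¹ * m) :=
    IsPEl.mul (IsPEl.conj' hm2 g) hm2
      (E.commute hy (conj_mem_cent hg hm1) (IsPEl.not_dvd E.hp hq hqp (IsPEl.conj' hm2 g)) hm1)
  by_contra hkZ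
  have hky : g * m * g⁻¹ * m ∈ cent y := mul_mem (conj_mem_cent hg hm1) hm1
  have h1 : g ^ 2 * m = m * g ^ 2 :=
    (E.commute hy hm1 (IsPEl.not_dvd E.hp hq hqp hm2) hg2).symm
  have h2 : g * (g * m * g⁻¹ * m) * g⁻¹ = g * m * g⁻¹ * m := by
    calc g * (g * m * g⁻¹ * m) * g⁻¹ = (g ^ 2 * m) * (g ^ 2)⁻¹ * (g * m * g⁻¹) := by
          rw [pow_two]; group
      _ = m * (g * m * g⁻¹) := by rw [h1, mul_inv_cancel_right]
      _ = g * m * g⁻¹ * m := E.commute hy hm1 (IsPEl.not_dvd E.hp hq hqp hm2) (conj_mem_cent hg hm1)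
  refine hgy (E.eq y _ hy (elt_of_pEl E.hp hq hqp hk hkZ) hky ▸ mem_cent.2 ?_)
  exact (mul_inv_eq_iff_eq_mul.1 h2).symm

/-- An element of order two in `Weyl y` is central. -/
theorem Reg.commutator_mem_of_sq (E : Reg G p) {y g h : G} (hy : Elt p y)
    (hg : g ∈ normalizer (cent y : Set G)) (hg2 : g ^ 2 ∈ cent y) (hgy : g ∉ cent y)
    (hh : h ∈ normalizer (cent y : Set G)) : ⁅g, h⁆ ∈ cent y := by
  by_contra hc
  set c : normalizer (cent y : Set G) :=
    ⁅(⟨g, hg⟩ : normalizer (cent y : Set G)), (⟨h, hh⟩ : normalizer (cent y : Set G))⁆ with hcdef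
  have hcG : (c : G) = ⁅g, h⁆ := rfl
  have hne : orderOf (c : Weyl y) ≠ 1 := fun h1 =>
    hc (hcG ▸ mk_eq_one.1 (orderOf_eq_one_iff.1 h1))
  obtain ⟨s, hs, ⟨k, hk⟩⟩ := Nat.exists_prime_and_dvd hne
  obtain ⟨q, hq, hqs, hqp, hqd⟩ := exists_good E s
  haveI := Fact.mk hq
  obtain ⟨m, hm, hmE, hm1, hm2, hmc⟩ := E.exists_noncentral_prt hqp hqd hy
  set m₁ := h⁻¹ * m * h with hm₁
  have hm₁Q : m₁ ∈ prt q (cent y) := by
    have := conj_mem_prt (inv_mem hh) hm1 hm2
    rwa [inv_inv] at this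
  have z1 := E.inv_mod_center hq hqp hy (inv_mem hg) (by rw [inv_pow]; exact inv_mem hg2)
    (fun h' => hgy (inv_mem_iff.1 h')) hm₁Q
  have z2 := E.inv_mod_center hq hqp hy hg hg2 hgy hm
  rw [inv_inv] at z1
  set a := g⁻¹ * m₁ * g * m₁ with ha
  set b := g * m * g⁻¹ * m with hb
  have hconj : (c : G) * m * (c : G)⁻¹ = (a * b⁻¹) * m := by
    have e1 : (c : G) * m * (c : G)⁻¹ = g * h * (a * m₁⁻¹) * h⁻¹ * g⁻¹ := by
      rw [hcG, ha, hm₁, commutatorElement_def]; group
    have e2 := mem_center_iff.1 z1 (g * h)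
    have e3 := mem_center_iff.1 (inv_mem z2) m
    rw [e1, ← mul_assoc (g * h), e2, mul_assoc a b⁻¹, ← e3, hb, hm₁]
    group
  have hηq : IsPEl q (a * b⁻¹) := by
    have h1 : a * b⁻¹ = (c : G) * m * (c : G)⁻¹ * m⁻¹ := by rw [hconj, mul_inv_cancel_right]
    rw [h1]
    exact IsPEl.mul (IsPEl.conj' hm2 _) (IsPEl.inv hm2)
      (E.commute hy (conj_mem_cent c.2 hm1) (IsPEl.not_dvd E.hp hq hqp (IsPEl.conj' hm2 _))
        (inv_mem hm1))
  obtain ⟨z, hz⟩ : ∃ z : G, z = (c : G) ^ k := ⟨_, rfl⟩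
  have hzm := conj_pow_of_center (mul_mem z1 (inv_mem z2)) hconj k
  have hzs : z ^ s ∈ cent m := by
    rw [hmc, hz, ← pow_mul, mul_comm k s, ← hk]
    refine (mk_eq_one (g := c ^ orderOf (c : Weyl y))).1 ?_
    rw [QuotientGroup.mk_pow, pow_orderOf_eq_one]
  have hzη : IsPEl q ((a * b⁻¹) ^ k) :=
    hηq.of_mem_zpowers (pow_mem (mem_zpowers _) k)
  have h2 := mem_cent_of_pow (pow_mem (mul_mem z1 (inv_mem z2)) k) (hz ▸ hzm) hzη
    ((Nat.coprime_primes hq hs).2 hqs) hzs
  rw [hmc, hz] at h2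
  have h3 : (c : Weyl y) ^ k = 1 := by
    rw [← QuotientGroup.mk_pow]; exact (mk_eq_one (g := c ^ k)).2 h2
  have h4 : 0 < k := by
    rcases Nat.eq_zero_or_pos k with h0 | h0
    · rw [h0, mul_zero] at hk; exact absurd hk (orderOf_pos _).ne'
    · exact h0
  have h5 := Nat.le_of_dvd h4 (orderOf_dvd_of_pow_eq_one h3)
  rw [hk] at h5
  nlinarith [hs.two_le]

end Cfsg.Agent.ClassSize.ThreeSizes
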